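import Groth.Prelude.Def_CartDual
import Mathlib.Tactic.Module

set_option autoImplicit false
universe u v

namespace K956.DualAug

variable (R : Type u) [CommRing R] (A : Type v) [CommRing A] [HopfAlgebra R A]

/-- projection onto the augmentation ideal -/
noncomputable def projAug : A →ₗ[R] LinearMap.ker (Bialgebra.counitAlgHom R A).toLinearMap :=
  LinearMap.codRestrict _ (LinearMap.id - (Algebra.linearMap R A).comp (Bialgebra.counitAlgHom R A).toLinearMap) (by
    intro a
    rw [LinearMap.mem_ker]
    simp)

theorem projAug_coe (a : A) : (projAug R A a : A) = a - algebraMap R A (Coalgebra.counit (R := R) a) := rfl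

theorem projAug_one : projAug R A 1 = 0 := by
  apply Subtype.ext
  rw [projAug_coe]
  simp

theorem projAug_of_mem (a : LinearMap.ker (Bialgebra.counitAlgHom R A).toLinearMap) : projAug R A a = a := by
  apply Subtype.ext
  have h : Coalgebra.counit (R := R) (a : A) = 0 := LinearMap.mem_ker.mp a.2
  rw [projAug_coe, h, map_zero, sub_zero]

theorem bij [Module.Finite R A] [Module.Projective R A] :
    Function.Bijective (fun f : LinearMap.ker (Bialgebra.counitAlgHom R (CartDual.D R A)).toLinearMap =>
      ((CartDual.toDual R A) (f : CartDual.D R A)).comp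
        (LinearMap.ker (Bialgebra.counitAlgHom R A).toLinearMap).subtype) := by
  constructor
  · intro f g hfg
    apply Subtype.ext
    apply (CartDual.toDual R A).injective
    ext a
    have hf : (CartDual.toDual R A) (f : CartDual.D R A) 1 = 0 := LinearMap.mem_ker.mp f.2
    have hg : (CartDual.toDual R A) (g : CartDual.D R A) 1 = 0 := LinearMap.mem_ker.mp g.2
    have e : a = (projAug R A a : A) + (Coalgebra.counit (R := R) a) • 1 := by
      rw [projAug_coe, Algebra.algebraMap_eq_smul_one]; module
    have h1 := DFunLike.congr_fun hfg (projAug R A a)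
    have h2 : (CartDual.toDual R A) (f : CartDual.D R A) (projAug R A a : A) =
      (CartDual.toDual R A) (g : CartDual.D R A) (projAug R A a : A) := h1
    rw [e, map_add, map_add, h2, map_smul, map_smul, hf, hg]
  · intro g
    refine ⟨⟨(CartDual.toDual R A).symm (g.comp (projAug R A)), ?_⟩, ?_⟩
    · rw [LinearMap.mem_ker]
      change g (projAug R A 1) = 0
      rw [projAug_one, map_zero]
    · ext a
      change g (projAug R A a) = g a
      rw [projAug_of_mem]

end K956.DualAug
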