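import Groth.Agent.OortTate.K956.Eig
import Groth.Agent.OortTate.K956.DualAug

/-!
# The power maps and eigenspaces of the dual Hopf algebra
-/

set_option autoImplicit false
universe u

open TensorProduct SGA3b Coalgebra Bialgebra WithConv

namespace K956.DualEig

variable {R : Type u} [CommRing R] {A : Type u} [CommRing A] [HopfAlgebra R A] [Coalgebra.IsCocomm R A]
    [Module.Finite R A] [Module.Projective R A]

omit [Coalgebra.IsCocomm R A] in
theorem mul_apply (x y : CartDual.D R A) (a : A) :
    (x * y) a = CartDual.ev₂ R A (x ⊗ₜ y) (Coalgebra.comul (R := R) a) := by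
  rw [CartDual.ev₂_tmul_eq']
  rfl

/-- the power map of the dual is the transpose of the power map -/
theorem powConv_dual (n : ℕ) (x : CartDual.D R A) (a : A) :
    (powConv R (CartDual.D R A) n x) a = x (powConv R A n a) := by
  induction n generalizing x a with
  | zero =>
    rw [Groth.Agent.Sga3A.PowConv.powConv_zero_apply, Groth.Agent.Sga3A.PowConv.powConv_zero_apply]
    rw [Algebra.algebraMap_eq_smul_one, Algebra.algebraMap_eq_smul_one, map_smul, CartDual.coalgebra_counit_apply]
    change x 1 • (1 : CartDual.D R A) a = _
    rw [LinearMap.convOne_apply]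
    simp [mul_comm]
  | succ n ih =>
    rw [Groth.Agent.Sga3A.PowConv.powConv_succ_apply, Groth.Agent.Sga3A.PowConv.powConv_succ_apply]
    have key : ∀ (t : CartDual.D R A ⊗[R] CartDual.D R A) (b : A ⊗[R] A),
        CartDual.ev₂ R A (TensorProduct.map (powConv R (CartDual.D R A) n).toLinearMap LinearMap.id t) b =
        CartDual.ev₂ R A t (TensorProduct.map (powConv R A n).toLinearMap LinearMap.id b) := by
      intro t b
      induction t with
      | zero => simp
      | add s t hs ht => simp only [map_add, LinearMap.add_apply, hs, ht]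
      | tmul y z =>
        induction b with
        | zero => simp
        | add s t hs ht => simp only [map_add, hs, ht]
        | tmul b c =>
          simp only [TensorProduct.map_tmul, CartDual.ev₂_tmul, AlgHom.toLinearMap_apply, LinearMap.id_apply, ih]
    have key2 : ∀ (t : CartDual.D R A ⊗[R] CartDual.D R A),
        (Algebra.TensorProduct.lift (powConv R (CartDual.D R A) n) (AlgHom.id R _) (fun _ _ => .all _ _) t) a =
        CartDual.ev₂ R A (TensorProduct.map (powConv R (CartDual.D R A) n).toLinearMap LinearMap.id t)
          (Coalgebra.comul (R := R) a) := by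
      intro t
      induction t with
      | zero => simp
      | add s t hs ht =>
        rw [map_add, map_add, map_add]
        exact congrArg₂ (· + ·) hs ht
      | tmul y z =>
        rw [Algebra.TensorProduct.lift_tmul, TensorProduct.map_tmul, mul_apply]
        rfl
    rw [key2, key]
    have key3 : ∀ b : A ⊗[R] A, CartDual.ev₂ R A (Coalgebra.comul (R := R) x) b = x (LinearMap.mul' R A b) := by
      intro b
      induction b with
      | zero => simp
      | add s t hs ht => simp only [map_add, hs, ht]
      | tmul b c => simp
    rw [key3]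
    congr 1
    generalize Coalgebra.comul (R := R) a = b
    induction b with
    | zero => simp
    | add s t hs ht => simp only [map_add, hs, ht]
    | tmul b c => simp

theorem dual_pow_eq_one {p : ℕ} (hp : (toConv (AlgHom.id R A)) ^ p = 1) :
    (toConv (AlgHom.id R (CartDual.D R A))) ^ p = 1 := by
  apply WithConv.ofConv_injective
  apply AlgHom.ext
  intro x
  apply (CartDual.toDual R A).injective
  apply LinearMap.ext
  intro a
  change (powConv R (CartDual.D R A) p x) a = (powConv R (CartDual.D R A) 0 x) a
  rw [powConv_dual, powConv_dual]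
  have : powConv R A p = powConv R A 0 := by
    change WithConv.ofConv ((WithConv.toConv (AlgHom.id R A)) ^ p) = WithConv.ofConv ((WithConv.toConv (AlgHom.id R A)) ^ 0)
    rw [hp, pow_zero]
  rw [this]

variable {p : ℕ} [Fact p.Prime] {u : R} {χ : (ZMod p)ˣ →* Rˣ}

theorem mem_eigenAug_dual {i : ℕ} {f : CartDual.D R A} :
    f ∈ OortTate.eigenAug R (CartDual.D R A) p χ i ↔ f 1 = 0 ∧
      ∀ (m : (ZMod p)ˣ) (a : A), f (powConv R A (m : ZMod p).val a) = ((χ m : Rˣ) : R) ^ i * f a := by
  rw [Eig.mem_eigenAug]
  refine and_congr Iff.rfl (forall_congr' fun m => ?_)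
  constructor
  · intro h a
    rw [← powConv_dual, h]
    rfl
  · intro h
    apply (CartDual.toDual R A).injective
    apply LinearMap.ext
    intro a
    change (powConv R (CartDual.D R A) (m : ZMod p).val f) a = _
    rw [powConv_dual, h]
    rfl

theorem dual_proj (hu : u * ((p - 1 : ℕ) : R) = 1) {i : ℕ} {f : CartDual.D R A}
    (hf : f ∈ OortTate.eigenAug R (CartDual.D R A) p χ i) (a : A) :
    f (OortTate.proj R A p u χ i a) = f a := by
  have h := (mem_eigenAug_dual.mp hf).2
  rw [Eig.proj_apply, map_smul, map_sum]
  have h1 : ∀ m : (ZMod p)ˣ, f ((((χ m⁻¹ : Rˣ) : R) ^ i) • powConv R A (m : ZMod p).val a) = f a := by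
    intro m
    rw [map_smul, h, smul_eq_mul, ← mul_assoc, Eig.chi_inv_mul, one_mul]
  simp only [h1]
  rw [Finset.sum_const, Finset.card_univ, Eig.card_units, ← Nat.cast_smul_eq_nsmul R, smul_smul, hu, one_smul]

/-- the projection of `A` onto the eigenspace `I_i` -/
noncomputable def projI (u : R) (hp : (toConv (AlgHom.id R A)) ^ p = 1) (χ : (ZMod p)ˣ →* Rˣ) (i : ℕ) :
    A →ₗ[R] OortTate.eigenAug R A p χ i :=
  LinearMap.codRestrict _ ((OortTate.proj R A p u χ i).comp
    ((LinearMap.ker (Bialgebra.counitAlgHom R A).toLinearMap).subtype.comp (K956.DualAug.projAug R A)))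
    (fun a => Eig.proj_mem hp i _ (LinearMap.mem_ker.mp (K956.DualAug.projAug R A a).2))

theorem bij (hu : u * ((p - 1 : ℕ) : R) = 1)
    (hp : (toConv (AlgHom.id R A)) ^ p = 1) (i : ℕ) :
    Function.Bijective (fun f : OortTate.eigenAug R (CartDual.D R A) p χ i =>
      ((CartDual.toDual R A) (f : CartDual.D R A)).comp (OortTate.eigenAug R A p χ i).subtype) := by
  constructor
  · intro f g hfg
    apply Subtype.ext
    have hf1 : (CartDual.toDual R A) (f : CartDual.D R A) 1 = 0 := (mem_eigenAug_dual.mp f.2).1
    have hg1 : (CartDual.toDual R A) (g : CartDual.D R A) 1 = 0 := (mem_eigenAug_dual.mp g.2).1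
    apply (CartDual.toDual R A).injective
    apply LinearMap.ext
    intro a
    have e : a = (K956.DualAug.projAug R A a : A) + (Coalgebra.counit (R := R) a) • 1 := by
      rw [K956.DualAug.projAug_coe, Algebra.algebraMap_eq_smul_one]; module
    have hc : Coalgebra.counit (R := R) (K956.DualAug.projAug R A a : A) = 0 :=
      LinearMap.mem_ker.mp (K956.DualAug.projAug R A a).2
    have h1 : (CartDual.toDual R A) (f : CartDual.D R A) (K956.DualAug.projAug R A a : A) =
      (CartDual.toDual R A) (g : CartDual.D R A) (K956.DualAug.projAug R A a : A) := by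
      have h2 := dual_proj (u := u) hu f.2 (K956.DualAug.projAug R A a : A)
      have h3 := dual_proj (u := u) hu g.2 (K956.DualAug.projAug R A a : A)
      have h4 := DFunLike.congr_fun hfg ⟨OortTate.proj R A p u χ i (K956.DualAug.projAug R A a : A),
        Eig.proj_mem hp i _ hc⟩
      change (f : CartDual.D R A) _ = (g : CartDual.D R A) _
      rw [← h2, ← h3]
      exact h4
    rw [e, map_add, map_add, h1, map_smul, map_smul, hf1, hg1]
  · intro g
    have hcomm : ∀ (m : (ZMod p)ˣ) (a : A), (K956.DualAug.projAug R A (powConv R A (m : ZMod p).val a) : A) =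
        powConv R A (m : ZMod p).val (K956.DualAug.projAug R A a : A) := by
      intro m a
      rw [K956.DualAug.projAug_coe, K956.DualAug.projAug_coe, map_sub, AlgHom.commutes, Eig.counit_powConv]
    refine ⟨⟨(CartDual.toDual R A).symm (g.comp (projI u hp χ i)), ?_⟩, ?_⟩
    · rw [mem_eigenAug_dual]
      constructor
      · change g (projI u hp χ i 1) = 0
        have : projI u hp χ i (1 : A) = 0 := by
          apply Subtype.ext
          change OortTate.proj R A p u χ i (K956.DualAug.projAug R A 1 : A) = 0
          rw [K956.DualAug.projAug_one]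
          simp
        rw [this, map_zero]
      · intro m a
        change g (projI u hp χ i (powConv R A (m : ZMod p).val a)) = ((χ m : Rˣ) : R) ^ i * g (projI u hp χ i a)
        have : projI u hp χ i (powConv R A (m : ZMod p).val a) = ((χ m : Rˣ) : R) ^ i • projI u hp χ i a := by
          apply Subtype.ext
          change OortTate.proj R A p u χ i (K956.DualAug.projAug R A (powConv R A (m : ZMod p).val a) : A) =
            ((χ m : Rˣ) : R) ^ i • OortTate.proj R A p u χ i (K956.DualAug.projAug R A a : A)
          rw [hcomm, Eig.proj_powConv hp]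
        rw [this, map_smul, smul_eq_mul]
    · apply LinearMap.ext
      intro a
      change g (projI u hp χ i (a : A)) = g a
      congr 1
      apply Subtype.ext
      change OortTate.proj R A p u χ i (K956.DualAug.projAug R A (a : A) : A) = a
      rw [K956.DualAug.projAug_coe, (Eig.mem_eigenAug.mp a.2).1, map_zero, sub_zero, Eig.proj_of_mem hu i a.2]

end K956.DualEig
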