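import Groth.Agent.OortTate.K956.Eig
import Mathlib.LinearAlgebra.TensorProduct.Tower
import Mathlib.RingTheory.TensorProduct.Finite

/-!
# Base change of the eigenspaces of the augmentation ideal
-/

set_option autoImplicit false
universe u

open WithConv Coalgebra TensorProduct SGA3b

namespace K956.BC

section pi

variable {R : Type u} [CommRing R] {A : Type u} [CommRing A] [HopfAlgebra R A]
variable {p : ℕ} [Fact p.Prime]

/-- the projection of `A` onto the `i`-th eigenspace of the augmentation ideal -/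
noncomputable def piA (R : Type u) [CommRing R] (A : Type u) [CommRing A] [HopfAlgebra R A]
    (p : ℕ) [Fact p.Prime] (u : R) (χ : (ZMod p)ˣ →* Rˣ) (i : ℕ) : A →ₗ[R] A :=
  (OortTate.proj R A p u χ i).comp (LinearMap.id - (Algebra.linearMap R A).comp (counit (R := R) (A := A)))

variable {u : R} {χ : (ZMod p)ˣ →* Rˣ}

theorem piA_apply (i : ℕ) (a : A) : piA R A p u χ i a =
    OortTate.proj R A p u χ i (a - algebraMap R A (counit (R := R) a)) := rfl

theorem piA_mem (hp : (toConv (AlgHom.id R A)) ^ p = 1) (i : ℕ) (a : A) :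
    piA R A p u χ i a ∈ OortTate.eigenAug R A p χ i :=
  Eig.proj_mem hp i _ (by simp)

theorem piA_of_mem (hu : u * ((p - 1 : ℕ) : R) = 1) {i : ℕ} {a : A} (ha : a ∈ OortTate.eigenAug R A p χ i) :
    piA R A p u χ i a = a := by
  rw [piA_apply, (Eig.mem_eigenAug.mp ha).1, map_zero, sub_zero, Eig.proj_of_mem hu i ha]

theorem range_piA (hu : u * ((p - 1 : ℕ) : R) = 1) (hp : (toConv (AlgHom.id R A)) ^ p = 1) (i : ℕ) :
    LinearMap.range (piA R A p u χ i) = OortTate.eigenAug R A p χ i := by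
  ext a
  constructor
  · rintro ⟨b, rfl⟩
    exact piA_mem hp i b
  · intro ha
    exact ⟨a, piA_of_mem hu ha⟩

/-- the projection as a map onto the eigenspace -/
noncomputable def projE (u : R) (χ : (ZMod p)ˣ →* Rˣ) (hp : (toConv (AlgHom.id R A)) ^ p = 1) (i : ℕ) :
    A →ₗ[R] OortTate.eigenAug R A p χ i :=
  LinearMap.codRestrict _ (piA R A p u χ i) (piA_mem hp i)

theorem projE_coe (hp : (toConv (AlgHom.id R A)) ^ p = 1) (i : ℕ) (a : A) :
    (projE u χ hp i a : A) = piA R A p u χ i a := rfl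

theorem projE_subtype (hu : u * ((p - 1 : ℕ) : R) = 1) (hp : (toConv (AlgHom.id R A)) ^ p = 1) (i : ℕ) :
    (projE u χ hp i).comp (OortTate.eigenAug R A p χ i).subtype = LinearMap.id := by
  apply LinearMap.ext
  intro a
  apply Subtype.ext
  exact piA_of_mem hu a.2

theorem projE_surjective (hu : u * ((p - 1 : ℕ) : R) = 1) (hp : (toConv (AlgHom.id R A)) ^ p = 1) (i : ℕ) :
    Function.Surjective (projE (A := A) u χ hp i) := fun a =>
  ⟨a, LinearMap.congr_fun (projE_subtype hu hp i) a⟩

theorem finite_eigenAug [Module.Finite R A] (hu : u * ((p - 1 : ℕ) : R) = 1)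
    (hp : (toConv (AlgHom.id R A)) ^ p = 1) (i : ℕ) :
    Module.Finite R (OortTate.eigenAug R A p χ i) :=
  Module.Finite.of_surjective _ (projE_surjective (A := A) (χ := χ) hu hp i)

theorem projective_eigenAug [Module.Projective R A] (hu : u * ((p - 1 : ℕ) : R) = 1)
    (hp : (toConv (AlgHom.id R A)) ^ p = 1) (i : ℕ) :
    Module.Projective R (OortTate.eigenAug R A p χ i) :=
  Module.Projective.of_split _ _ (projE_subtype (A := A) (χ := χ) hu hp i)

end pi

section bc

variable {R : Type u} [CommRing R] {A : Type u} [CommRing A] [HopfAlgebra R A]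
variable {p : ℕ} [Fact p.Prime] {u : R} {χ : (ZMod p)ˣ →* Rˣ}
variable (S : Type u) [CommRing S] [Algebra R S]

/-- base change of the character -/
def chiS (χ : (ZMod p)ˣ →* Rˣ) : (ZMod p)ˣ →* Sˣ := (Units.map (algebraMap R S).toMonoidHom).comp χ

theorem chiS_apply (m : (ZMod p)ˣ) : ((chiS S χ m : Sˣ) : S) = algebraMap R S (χ m : R) := rfl

omit [Fact p.Prime] in
theorem hu_S (hu : u * ((p - 1 : ℕ) : R) = 1) : algebraMap R S u * ((p - 1 : ℕ) : S) = 1 := by
  rw [← map_natCast (algebraMap R S), ← map_mul, hu, map_one]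

theorem hχ_S (hχ : ∀ m : (ZMod p)ˣ, m ≠ 1 → IsUnit ((χ m : R) - 1)) :
    ∀ m : (ZMod p)ˣ, m ≠ 1 → IsUnit ((chiS S χ m : S) - 1) := by
  intro m hm
  rw [chiS_apply, ← map_one (algebraMap R S), ← map_sub]
  exact (hχ m hm).map _

theorem hχp_S (hχp : ∀ m : (ZMod p)ˣ, ((χ m : Rˣ) : R) - (((m : ZMod p).val : ℕ) : R) ∈ Ideal.span ({(p : R)} : Set R)) :
    ∀ m : (ZMod p)ˣ, ((chiS S χ m : Sˣ) : S) - (((m : ZMod p).val : ℕ) : S) ∈ Ideal.span ({(p : S)} : Set S) := by
  intro m
  have h := Ideal.mem_map_of_mem (algebraMap R S) (hχp m)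
  rw [Ideal.map_span, Set.image_singleton, map_natCast, map_sub, map_natCast] at h
  exact h

theorem proj_baseChange (i : ℕ) (a : A) :
    OortTate.proj S (S ⊗[R] A) p (algebraMap R S u) (chiS S χ) i (1 ⊗ₜ a) =
      1 ⊗ₜ[R] OortTate.proj R A p u χ i a := by
  rw [Eig.proj_apply, Eig.proj_apply, TensorProduct.tmul_smul, ← algebraMap_smul S u, TensorProduct.tmul_sum]
  congr 1
  refine Finset.sum_congr rfl fun m _ => ?_
  rw [Groth.Agent.Sga3A.PowConv.powConv_tmul, TensorProduct.tmul_smul, ← algebraMap_smul S (((χ m⁻¹ : Rˣ) : R) ^ i),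
    map_pow, chiS_apply]

theorem piA_baseChange (i : ℕ) (a : A) :
    piA S (S ⊗[R] A) p (algebraMap R S u) (chiS S χ) i (1 ⊗ₜ a) = 1 ⊗ₜ[R] piA R A p u χ i a := by
  rw [piA_apply, piA_apply, ← proj_baseChange]
  congr 1
  rw [TensorProduct.tmul_sub, TensorProduct.counit_tmul]
  congr 1
  simp [Algebra.algebraMap_eq_smul_one, Algebra.TensorProduct.one_def, TensorProduct.smul_tmul']

/-- The eigenspaces commute with base change. -/
theorem eigenAug_baseChange (hu : u * ((p - 1 : ℕ) : R) = 1) (hp : (toConv (AlgHom.id R A)) ^ p = 1)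
    (hpS : (toConv (AlgHom.id S (S ⊗[R] A))) ^ p = 1) (i : ℕ) :
    OortTate.eigenAug S (S ⊗[R] A) p (chiS S χ) i = (OortTate.eigenAug R A p χ i).baseChange S := by
  rw [← range_piA (u := algebraMap R S u) (hu_S S hu) hpS]
  apply le_antisymm
  · rintro _ ⟨f, rfl⟩
    induction f with
    | zero => rw [map_zero]; exact zero_mem _
    | add x y hx hy => rw [map_add]; exact add_mem hx hy
    | tmul s a =>
      have h1 : s ⊗ₜ[R] a = s • ((1 : S) ⊗ₜ[R] a) := by rw [TensorProduct.smul_tmul', smul_eq_mul, mul_one]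
      rw [h1, map_smul, piA_baseChange]
      exact Submodule.smul_mem _ _ (Submodule.tmul_mem_baseChange_of_mem _ (piA_mem hp i a))
  · rw [Submodule.baseChange_eq_span, Submodule.span_le]
    rintro _ ⟨a, ha, rfl⟩
    refine ⟨1 ⊗ₜ a, ?_⟩
    rw [piA_baseChange, piA_of_mem hu ha]
    rfl

/-- the base change of the inclusion of the eigenspace is injective -/
theorem baseChange_subtype_injective (hu : u * ((p - 1 : ℕ) : R) = 1) (hp : (toConv (AlgHom.id R A)) ^ p = 1) (i : ℕ) :
    Function.Injective ((OortTate.eigenAug R A p χ i).subtype.baseChange S) := by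
  apply Function.LeftInverse.injective (g := (projE u χ hp i).baseChange S)
  intro x
  rw [← LinearMap.comp_apply, ← LinearMap.baseChange_comp, projE_subtype hu hp, LinearMap.baseChange_id]
  rfl

/-- `S ⊗ I_i(A) ≃ I_i(S ⊗ A)` -/
noncomputable def eigenAugEquiv (hu : u * ((p - 1 : ℕ) : R) = 1) (hp : (toConv (AlgHom.id R A)) ^ p = 1)
    (hpS : (toConv (AlgHom.id S (S ⊗[R] A))) ^ p = 1) (i : ℕ) :
    S ⊗[R] OortTate.eigenAug R A p χ i ≃ₗ[S] OortTate.eigenAug S (S ⊗[R] A) p (chiS S χ) i :=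
  (LinearEquiv.ofInjective _ (baseChange_subtype_injective S hu hp i)).trans
    (LinearEquiv.ofEq _ _ (by
      rw [eigenAug_baseChange S hu hp hpS i]
      rfl))

end bc

section mul

variable {R : Type u} [CommRing R] {A : Type u} [CommRing A] [Algebra R A] (S : Type u) [CommRing S] [Algebra R S]

theorem mul_mem_baseChange (P Q : Submodule R A) {x y : S ⊗[R] A} (hx : x ∈ P.baseChange S) (hy : y ∈ Q.baseChange S) :
    x * y ∈ (P * Q).baseChange S := by
  rw [Submodule.baseChange_eq_span] at hx hy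
  induction hx using Submodule.span_induction with
  | mem x hx =>
    obtain ⟨a, ha, rfl⟩ := hx
    induction hy using Submodule.span_induction with
    | mem y hy =>
      obtain ⟨b, hb, rfl⟩ := hy
      change ((1 : S) ⊗ₜ[R] a) * (1 ⊗ₜ b) ∈ _
      rw [Algebra.TensorProduct.tmul_mul_tmul]
      exact Submodule.tmul_mem_baseChange_of_mem _ (Submodule.mul_mem_mul ha hb)
    | zero => rw [mul_zero]; exact zero_mem _
    | add y z _ _ hy hz => rw [mul_add]; exact add_mem hy hz
    | smul c y _ hy => rw [mul_smul_comm]; exact Submodule.smul_mem _ _ hy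
  | zero => rw [zero_mul]; exact zero_mem _
  | add x z _ _ hx hz => rw [add_mul]; exact add_mem hx hz
  | smul c x _ hx => rw [smul_mul_assoc]; exact Submodule.smul_mem _ _ hx

theorem pow_mem_baseChange (P : Submodule R A) {x : S ⊗[R] A} (hx : x ∈ P.baseChange S) (t : ℕ) (ht : 1 ≤ t) :
    x ^ t ∈ (P ^ t).baseChange S := by
  induction t, ht using Nat.le_induction with
  | base => rwa [pow_one, pow_one]
  | succ n hn ih =>
    rw [pow_succ, pow_succ]
    exact mul_mem_baseChange S _ _ ih hx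

end mul

end K956.BC
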