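import Groth.Agent.OortTate.K956.DeligneFree
import Mathlib.RingTheory.Spectrum.Prime.FreeLocus
import Mathlib.RingTheory.LocalProperties.Submodule
import Mathlib.RingTheory.LocalRing.Module

/-!
# Deligne's theorem: a commutative finite locally free group scheme of order `n` is killed by `n`
-/

set_option autoImplicit false
universe u v w x

open WithConv Coalgebra Bialgebra TensorProduct

namespace K956.Deligne

section basechange

variable {R : Type u} [CommRing R] {S : Type v} [CommRing S] [Algebra R S]
variable {A : Type w} [CommRing A] [HopfAlgebra R A]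
variable {T : Type x} [CommRing T] [Algebra R T] [Algebra S T] [IsScalarTower R S T]

/-- Restriction of points of the base change. -/
noncomputable def resPt (f : WithConv (S ⊗[R] A →ₐ[S] T)) : WithConv (A →ₐ[R] T) :=
  toConv ((f.ofConv.restrictScalars R).comp Algebra.TensorProduct.includeRight)

theorem resPt_mul (f g : WithConv (S ⊗[R] A →ₐ[S] T)) : resPt (f * g) = resPt f * resPt g := by
  apply WithConv.ofConv_injective
  ext a
  change (f * g) (1 ⊗ₜ a) = (resPt f * resPt g) a
  rw [AlgHom.convMul_apply, AlgHom.convMul_apply, TensorProduct.comul_tmul, ← (ℛ R a).eq]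
  simp [tmul_sum, resPt]

theorem resPt_one : resPt (1 : WithConv (S ⊗[R] A →ₐ[S] T)) = 1 := by
  apply WithConv.ofConv_injective
  ext a
  change (1 : WithConv (S ⊗[R] A →ₐ[S] T)) (1 ⊗ₜ a) = (1 : WithConv (A →ₐ[R] T)) a
  rw [AlgHom.convOne_apply, AlgHom.convOne_apply, TensorProduct.counit_tmul]
  simp [Algebra.smul_def, ← IsScalarTower.algebraMap_apply]

theorem resPt_pow (f : WithConv (S ⊗[R] A →ₐ[S] T)) (n : ℕ) : resPt (f ^ n) = resPt f ^ n := by
  induction n with
  | zero => rw [pow_zero, pow_zero, resPt_one]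
  | succ n ih => rw [pow_succ, pow_succ, resPt_mul, ih]

end basechange

theorem comp_convPow {R : Type u} [CommRing R] {A : Type v} [CommRing A] [HopfAlgebra R A] {B : Type w} {B' : Type x}
    [CommRing B] [Algebra R B] [CommRing B'] [Algebra R B'] (h : B →ₐ[R] B') (f : WithConv (A →ₐ[R] B)) (n : ℕ) :
    h.comp (f ^ n).ofConv = ((toConv (h.comp f.ofConv)) ^ n).ofConv := by
  induction n with
  | zero =>
    rw [pow_zero, pow_zero]
    ext a
    simp [AlgHom.convOne_def]
  | succ n ih =>
    rw [pow_succ, pow_succ, AlgHom.comp_convMul_distrib, ih]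

/-- the free case -/
theorem id_pow_finrank (R : Type u) [CommRing R] [Nontrivial R] (A : Type v) [CommRing A] [HopfAlgebra R A] [IsCocomm R A]
    [Module.Free R A] [Module.Finite R A] :
    (toConv (AlgHom.id R A)) ^ (Module.finrank R A) = 1 := by
  let b : Module.Basis (Fin (Module.finrank R A)) R A := Module.finBasis R A
  let b' : Module.Basis (Fin (Module.finrank R A)) A (A ⊗[R] A) := Algebra.TensorProduct.basis A b
  have h := DeligneFree.pow_card_eq_one A (A ⊗[R] A) b' (toConv (Algebra.TensorProduct.lmul'' R))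
  rw [Fintype.card_fin] at h
  have h2 := congrArg (resPt (T := A)) h
  rw [resPt_pow, resPt_one] at h2
  have h3 : resPt (T := A) (toConv (Algebra.TensorProduct.lmul'' R (S := A))) = toConv (AlgHom.id R A) := by
    apply WithConv.ofConv_injective
    ext a
    change (Algebra.TensorProduct.lmul'' R) ((1 : A) ⊗ₜ[R] a) = a
    exact one_mul a
  rw [h3] at h2
  exact h2

/-- The general case. -/
theorem id_pow_eq_one (R : Type u) [CommRing R] (A : Type v) [CommRing A] [HopfAlgebra R A]
    [Coalgebra.IsCocomm R A] [Module.Finite R A] [Module.Projective R A] (n : ℕ)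
    (hn : ∀ p : PrimeSpectrum R, Module.rankAtStalk A p = n) :
    (toConv (AlgHom.id R A)) ^ n = 1 := by
  apply WithConv.ofConv_injective
  apply AlgHom.ext
  intro a
  refine Module.eq_of_localization_maximal (R := R) (M := A) (fun P _ => Localization.AtPrime P ⊗[R] A)
    (fun P _ => TensorProduct.mk R (Localization.AtPrime P) A 1) _ _ (fun P hP => ?_)
  let S := Localization.AtPrime P
  have hfree : Module.Free S (S ⊗[R] A) := Module.free_of_flat_of_isLocalRing
  have hrk : Module.finrank S (S ⊗[R] A) = n := by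
    have h1 := Module.rankAtStalk_eq_finrank_of_free (R := S) (M := S ⊗[R] A)
    have h2 := congrFun h1 (IsLocalRing.closedPoint S)
    rw [Module.rankAtStalk_baseChange, hn] at h2
    exact h2.symm
  have h := id_pow_finrank S (S ⊗[R] A)
  rw [hrk] at h
  have h2 := congrArg (resPt (T := S ⊗[R] A)) h
  rw [resPt_pow, resPt_one] at h2
  have h3 : resPt (T := S ⊗[R] A) (toConv (AlgHom.id S (S ⊗[R] A))) =
      toConv ((Algebra.TensorProduct.includeRight : A →ₐ[R] S ⊗[R] A).comp (toConv (AlgHom.id R A)).ofConv) := by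
    apply WithConv.ofConv_injective
    rfl
  rw [h3] at h2
  have h4 := comp_convPow (Algebra.TensorProduct.includeRight : A →ₐ[R] S ⊗[R] A) (toConv (AlgHom.id R A)) n
  rw [h2] at h4
  have h5 := AlgHom.congr_fun h4 a
  change (1 : S) ⊗ₜ[R] (((toConv (AlgHom.id R A)) ^ n).ofConv a) = (1 : S) ⊗ₜ[R] ((1 : WithConv (A →ₐ[R] A)).ofConv a)
  have h6 : (1 : WithConv (A →ₐ[R] S ⊗[R] A)).ofConv a = (1 : S) ⊗ₜ[R] ((1 : WithConv (A →ₐ[R] A)).ofConv a) := by
    change algebraMap R (S ⊗[R] A) (counit a) = (1 : S) ⊗ₜ[R] (algebraMap R A (counit a))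
    rw [Algebra.algebraMap_eq_smul_one, Algebra.algebraMap_eq_smul_one, TensorProduct.tmul_smul]
    rfl
  rw [← h6]
  exact h5

end K956.Deligne
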