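import Mathlib.RingTheory.HopfAlgebra.Basic
import Mathlib.RingTheory.HopfAlgebra.Convolution
import Mathlib.RingTheory.HopfAlgebra.TensorProduct
import Mathlib.RingTheory.Coalgebra.Convolution
import Mathlib.RingTheory.Bialgebra.Convolution
import Mathlib.RingTheory.Norm.Basic

/-!
# Deligne's theorem for free Hopf algebras (the norm argument)

`R` a commutative ring, `A` a commutative and cocommutative Hopf algebra, free of rank `n` over `R`, `u : A → R` a
point of `G = Spec A`. Then `u ^ n = 1`.
-/

set_option autoImplicit false
universe u v w

open WithConv Coalgebra Bialgebra TensorProduct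

namespace K956.DeligneFree

variable (R : Type u) [CommRing R] (A : Type v) [CommRing A] [HopfAlgebra R A] [IsCocomm R A]

/-- the dual algebra -/
abbrev B : Type _ := WithConv (A →ₗ[R] R)

/-- the convolution algebra of endomorphisms -/
abbrev E : Type _ := WithConv (A →ₗ[R] A)

/-- scalars: `b ↦ (x ↦ b(x) 1)` -/
noncomputable def scal : B R A →+* E R A where
  toFun b := toConv ((Algebra.linearMap R A).comp b.ofConv)
  map_one' := by
    apply WithConv.ofConv_injective
    apply LinearMap.ext
    intro x
    rfl
  map_mul' b c := by
    have := LinearMap.algHom_comp_convMul_distrib (R := R) (Algebra.ofId R A) b c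
    apply WithConv.ofConv_injective
    exact this
  map_zero' := by
    apply WithConv.ofConv_injective
    apply LinearMap.ext
    intro x
    simp
  map_add' b c := by
    apply WithConv.ofConv_injective
    apply LinearMap.ext
    intro x
    simp

noncomputable local instance instAlg : Algebra (B R A) (E R A) := (scal R A).toAlgebra

theorem smul_def' (b : B R A) (f : E R A) : b • f = scal R A b * f := Algebra.smul_def b f

theorem smul_apply' (b : B R A) (f : E R A) {x : A} {ι : Type*} (r : Coalgebra.Repr R x ι) :
    (b • f) x = ∑ i ∈ r.index, b (r.left i) • f (r.right i) := by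
  rw [smul_def', r.convMul_apply]
  refine Finset.sum_congr rfl fun i _ => ?_
  change algebraMap R A _ * _ = _
  rw [Algebra.smul_def]

/-- composition with a linear map `A → R` on the target -/
theorem comp_smul (φ : A →ₗ[R] R) (b : B R A) (f : E R A) :
    (toConv (φ.comp (b • f).ofConv) : B R A) = b * toConv (φ.comp f.ofConv) := by
  apply WithConv.ofConv_injective
  apply LinearMap.ext
  intro x
  change φ ((b • f) x) = (b * toConv (φ.comp f.ofConv)) x
  rw [smul_apply' R A b f (ℛ R x), (ℛ R x).convMul_apply, map_sum]
  refine Finset.sum_congr rfl fun i _ => ?_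
  rw [map_smul, smul_eq_mul]
  rfl

variable {ι : Type w} [Fintype ι] [DecidableEq ι]

/-- coordinates of the free `B`-module `E` -/
noncomputable def coordEquiv (b : Module.Basis ι R A) : E R A ≃ₗ[B R A] (ι → B R A) where
  toFun f i := toConv ((b.coord i).comp f.ofConv)
  invFun g := toConv (∑ i, (LinearMap.toSpanSingleton R A (b i)).comp (g i).ofConv)
  map_add' f g := by
    funext i
    apply WithConv.ofConv_injective
    apply LinearMap.ext
    intro x
    simp
  map_smul' c f := by
    funext i
    exact comp_smul R A (b.coord i) c f
  left_inv f := by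
    apply WithConv.ofConv_injective
    apply LinearMap.ext
    intro x
    change (∑ i, (LinearMap.toSpanSingleton R A (b i)).comp ((b.coord i).comp f.ofConv)) x = f x
    rw [LinearMap.sum_apply]
    exact b.sum_repr (f x)
  right_inv g := by
    funext i
    apply WithConv.ofConv_injective
    apply LinearMap.ext
    intro x
    change b.coord i ((∑ j, (LinearMap.toSpanSingleton R A (b j)).comp (g j).ofConv) x) = g i x
    rw [LinearMap.sum_apply, map_sum]
    simp only [LinearMap.comp_apply, LinearMap.toSpanSingleton_apply, map_smul, Module.Basis.coord_apply,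
      Module.Basis.repr_self, Finsupp.single_apply, smul_eq_mul, mul_ite, mul_one, mul_zero]
    rw [Finset.sum_ite_eq' Finset.univ i]
    simp

/-- the `B`-basis of `E` -/
noncomputable def basisE (b : Module.Basis ι R A) : Module.Basis ι (B R A) (E R A) := Module.Basis.ofEquivFun (coordEquiv R A b)

/-- translation by a point -/
noncomputable def transl (g : WithConv (A →ₐ[R] R)) : A →ₐ[R] A :=
  (Algebra.TensorProduct.lift ((Algebra.ofId R A).comp g.ofConv) (AlgHom.id R A) (fun _ _ => .all _ _)).comp
    (comulAlgHom R A)

omit [IsCocomm R A] in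
theorem transl_apply (g : WithConv (A →ₐ[R] R)) {x : A} {κ : Type*} (r : Coalgebra.Repr R x κ) :
    transl R A g x = ∑ i ∈ r.index, g (r.left i) • r.right i := by
  rw [transl, AlgHom.comp_apply, comulAlgHom_apply, ← r.eq, map_sum]
  refine Finset.sum_congr rfl fun i _ => ?_
  rw [Algebra.TensorProduct.lift_tmul, Algebra.smul_def]
  rfl

theorem transl_eq (g : WithConv (A →ₐ[R] R)) :
    (toConv (transl R A g).toLinearMap : E R A) = scal R A (toConv g.ofConv.toLinearMap) * toConv LinearMap.id := by
  apply WithConv.ofConv_injective
  apply LinearMap.ext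
  intro x
  change transl R A g x = (scal R A (toConv g.ofConv.toLinearMap) * toConv LinearMap.id : E R A) x
  rw [← smul_def', smul_apply' R A _ _ (ℛ R x), transl_apply R A g (ℛ R x)]
  rfl

omit [IsCocomm R A] in
theorem transl_eq_mul (g : WithConv (A →ₐ[R] R)) :
    (toConv (transl R A g) : WithConv (A →ₐ[R] A)) = toConv ((Algebra.ofId R A).comp g.ofConv) * toConv (AlgHom.id R A) := by
  apply WithConv.ofConv_injective
  apply AlgHom.ext
  intro x
  change _ = (toConv ((Algebra.ofId R A).comp g.ofConv) * toConv (AlgHom.id R A) : WithConv (A →ₐ[R] A)) x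
  rw [AlgHom.convMul_apply]
  rfl

omit [IsCocomm R A] in
theorem transl_one : transl R A 1 = AlgHom.id R A := by
  have h := transl_eq_mul R A 1
  have h1 : (toConv ((Algebra.ofId R A).comp (1 : WithConv (A →ₐ[R] R)).ofConv) : WithConv (A →ₐ[R] A)) = 1 := by
    apply WithConv.ofConv_injective
    rfl
  rw [h1, one_mul] at h
  exact congrArg WithConv.ofConv h

omit [IsCocomm R A] in
theorem transl_comp (g h : WithConv (A →ₐ[R] R)) : (transl R A g).comp (transl R A h) = transl R A (h * g) := by
  apply WithConv.toConv_injective
  have h1 : (toConv ((transl R A g).comp (transl R A h)) : WithConv (A →ₐ[R] A)) =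
      toConv ((transl R A g).comp ((Algebra.ofId R A).comp h.ofConv)) * toConv (transl R A g) := by
    have e1 : (toConv ((transl R A g).comp (transl R A h)) : WithConv (A →ₐ[R] A)) =
      toConv ((transl R A g).comp (toConv ((Algebra.ofId R A).comp h.ofConv) * toConv (AlgHom.id R A)).ofConv) := by
      rw [← transl_eq_mul]
    rw [e1, AlgHom.comp_convMul_distrib]
    rfl
  have h2 : (transl R A g).comp ((Algebra.ofId R A).comp h.ofConv) = (Algebra.ofId R A).comp h.ofConv := by
    apply AlgHom.ext
    intro x
    exact AlgHom.commutes (transl R A g) _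
  rw [h1, h2, transl_eq_mul, transl_eq_mul, ← mul_assoc]
  congr 1
  have h3 : (Algebra.ofId R A).comp (h * g).ofConv = ((toConv ((Algebra.ofId R A).comp h.ofConv) :
    WithConv (A →ₐ[R] A)) * toConv ((Algebra.ofId R A).comp g.ofConv)).ofConv :=
      AlgHom.comp_convMul_distrib _ _ _
  exact (congrArg WithConv.toConv h3).symm

/-- postcomposition with a translation, a `B`-algebra automorphism of `E` -/
noncomputable def postE (g : WithConv (A →ₐ[R] R)) : E R A →ₐ[B R A] E R A where
  toFun f := toConv ((transl R A g).toLinearMap.comp f.ofConv)
  map_one' := by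
    apply WithConv.ofConv_injective
    apply LinearMap.ext
    intro x
    exact AlgHom.commutes (transl R A g) _
  map_mul' f f' := by
    apply WithConv.ofConv_injective
    exact LinearMap.algHom_comp_convMul_distrib (R := R) (transl R A g) f f'
  map_zero' := by
    apply WithConv.ofConv_injective
    apply LinearMap.ext
    intro x
    simp
  map_add' f f' := by
    apply WithConv.ofConv_injective
    apply LinearMap.ext
    intro x
    simp
  commutes' c := by
    apply WithConv.ofConv_injective
    apply LinearMap.ext
    intro x
    exact AlgHom.commutes (transl R A g) _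

noncomputable def postEquiv (g : WithConv (A →ₐ[R] R)) : E R A ≃ₐ[B R A] E R A :=
  AlgEquiv.ofAlgHom (postE R A g) (postE R A g⁻¹)
    (by
      apply AlgHom.ext
      intro f
      apply WithConv.ofConv_injective
      apply LinearMap.ext
      intro x
      change transl R A g (transl R A g⁻¹ (f x)) = f x
      rw [← AlgHom.comp_apply, transl_comp, inv_mul_cancel, transl_one]
      rfl)
    (by
      apply AlgHom.ext
      intro f
      apply WithConv.ofConv_injective
      apply LinearMap.ext
      intro x
      change transl R A g⁻¹ (transl R A g (f x)) = f x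
      rw [← AlgHom.comp_apply, transl_comp, mul_inv_cancel, transl_one]
      rfl)

/-- Deligne: a point of a commutative free group scheme of rank `n` is killed by `n` (statement in the dual algebra). -/
theorem pow_card_eq_one_lin (b : Module.Basis ι R A) (g : WithConv (A →ₐ[R] R)) :
    (toConv g.ofConv.toLinearMap : B R A) ^ (Fintype.card ι) = 1 := by
  have h1 : Algebra.norm (B R A) (postEquiv R A g (toConv LinearMap.id)) = Algebra.norm (B R A) (toConv LinearMap.id : E R A) :=
    Algebra.norm_eq_of_algEquiv (postEquiv R A g) (toConv LinearMap.id : E R A)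
  have h2 : postEquiv R A g (toConv LinearMap.id) = algebraMap (B R A) (E R A) (toConv g.ofConv.toLinearMap) * toConv LinearMap.id :=
    transl_eq R A g
  rw [h2, map_mul, Algebra.norm_algebraMap_of_basis (basisE R A b)] at h1
  have h3 : IsUnit (toConv LinearMap.id : E R A) := by
    refine ⟨⟨toConv LinearMap.id, toConv (HopfAlgebra.antipode R (A := A)), LinearMap.id_mul_antipode,
      LinearMap.antipode_mul_id⟩, rfl⟩
  have h4 := h3.map (Algebra.norm (B R A))
  exact h4.mul_right_cancel (by rw [h1, one_mul])

theorem pow_card_eq_one (b : Module.Basis ι R A) (g : WithConv (A →ₐ[R] R)) : g ^ (Fintype.card ι) = 1 := by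
  have h := pow_card_eq_one_lin R A b g
  rw [← AlgHom.toLinearMap_convPow, ← AlgHom.toLinearMap_convOne] at h
  apply WithConv.ofConv_injective
  exact AlgHom.toLinearMap_injective (congrArg WithConv.ofConv h)

end K956.DeligneFree
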