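import Groth.Prelude.Def_W4c5ffgsreadingcourseOT
import Groth.Agent.Sga3A.PowConv
import Mathlib.FieldTheory.Finite.Basic
import Mathlib.RingTheory.ZMod.UnitsCyclic
import Mathlib.Tactic.Module
import Mathlib.Tactic.LinearCombination

/-!
# Eigenspaces of the power maps on the augmentation ideal
-/

set_option autoImplicit false
universe u

open TensorProduct SGA3b Coalgebra Bialgebra WithConv

namespace K956.Eig

section pow
variable {R : Type u} [CommRing R] {A : Type u} [CommRing A] [HopfAlgebra R A]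

theorem comp_convPow {B B' : Type u} [CommRing B]
    [Algebra R B] [CommRing B'] [Algebra R B'] (h : B →ₐ[R] B') (f : WithConv (A →ₐ[R] B)) (n : ℕ) :
    h.comp (f ^ n).ofConv = ((toConv (h.comp f.ofConv)) ^ n).ofConv := by
  induction n with
  | zero =>
    rw [pow_zero, pow_zero]
    ext a
    simp [AlgHom.convOne_def]
  | succ n ih =>
    rw [pow_succ, pow_succ, AlgHom.comp_convMul_distrib, ih]

theorem powConv_comp (m n : ℕ) (a : A) : powConv R A m (powConv R A n a) = powConv R A (m * n) a := by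
  have h1 := comp_convPow (powConv R A m) (toConv (AlgHom.id R A)) n
  have h2 : (toConv ((powConv R A m).comp (toConv (AlgHom.id R A)).ofConv)) = (toConv (AlgHom.id R A)) ^ m := by
    apply WithConv.ofConv_injective
    rfl
  rw [h2, ← pow_mul] at h1
  exact AlgHom.congr_fun h1 a

theorem counit_powConv (n : ℕ) (a : A) : counit (R := R) (powConv R A n a) = counit (R := R) a := by
  have h1 := comp_convPow (counitAlgHom R A) (toConv (AlgHom.id R A)) n
  have h2 : (toConv ((counitAlgHom R A).comp (toConv (AlgHom.id R A)).ofConv)) = 1 := by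
    apply WithConv.ofConv_injective
    ext a
    rfl
  rw [h2, one_pow] at h1
  exact AlgHom.congr_fun h1 a

theorem powConv_one (a : A) : powConv R A 1 a = a := by
  change ((toConv (AlgHom.id R A)) ^ 1) a = a
  rw [pow_one]
  rfl

variable {p : ℕ}

theorem powConv_mod (hp : (toConv (AlgHom.id R A)) ^ p = 1) (n : ℕ) : powConv R A n = powConv R A (n % p) := by
  have : (toConv (AlgHom.id R A)) ^ n = (toConv (AlgHom.id R A)) ^ (n % p) := by
    conv_lhs => rw [← Nat.div_add_mod n p, pow_add, pow_mul, hp, one_pow, one_mul]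
  exact congrArg WithConv.ofConv this

theorem powConv_units (hp : (toConv (AlgHom.id R A)) ^ p = 1) (m m' : (ZMod p)ˣ) (a : A) :
    powConv R A (m : ZMod p).val (powConv R A (m' : ZMod p).val a) = powConv R A ((m * m' : (ZMod p)ˣ) : ZMod p).val a := by
  rw [powConv_comp, powConv_mod hp, Units.val_mul, ZMod.val_mul]

theorem powConv_units_one [Fact p.Prime] (a : A) : powConv R A ((1 : (ZMod p)ˣ) : ZMod p).val a = a := by
  have : ((1 : (ZMod p)ˣ) : ZMod p).val = 1 := by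
    rw [Units.val_one]
    have : Fact (1 < p) := ⟨(Fact.out : p.Prime).one_lt⟩
    exact ZMod.val_one p
  rw [this, powConv_one]

end pow

section eig

variable {R : Type u} [CommRing R] {A : Type u} [CommRing A] [HopfAlgebra R A]
variable {p : ℕ} [Fact p.Prime] {u : R} {χ : (ZMod p)ˣ →* Rˣ}

theorem mem_eigenAug {i : ℕ} {f : A} :
    f ∈ OortTate.eigenAug R A p χ i ↔ counit (R := R) f = 0 ∧
      ∀ m : (ZMod p)ˣ, powConv R A (m : ZMod p).val f = ((χ m : Rˣ) : R) ^ i • f := by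
  rw [OortTate.eigenAug, Submodule.mem_inf, Submodule.mem_iInf, LinearMap.mem_ker]
  simp only [Module.End.mem_eigenspace_iff]
  rfl

theorem proj_apply (i : ℕ) (f : A) :
    OortTate.proj R A p u χ i f =
      u • ∑ m : (ZMod p)ˣ, (((χ m⁻¹ : Rˣ) : R) ^ i) • powConv R A (m : ZMod p).val f := by
  simp [OortTate.proj, LinearMap.sum_apply]

theorem chi_inv_mul (m : (ZMod p)ˣ) (i : ℕ) : ((χ m⁻¹ : Rˣ) : R) ^ i * ((χ m : Rˣ) : R) ^ i = 1 := by
  rw [← mul_pow, ← Units.val_mul, ← map_mul, inv_mul_cancel, map_one, Units.val_one, one_pow]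

theorem powConv_proj (hp : (toConv (AlgHom.id R A)) ^ p = 1) (i : ℕ) (m : (ZMod p)ˣ) (f : A) :
    powConv R A (m : ZMod p).val (OortTate.proj R A p u χ i f) =
      ((χ m : Rˣ) : R) ^ i • OortTate.proj R A p u χ i f := by
  rw [proj_apply, map_smul, map_sum, smul_comm (((χ m : Rˣ) : R) ^ i) u]
  congr 1
  rw [Finset.smul_sum]
  rw [← Equiv.sum_comp (Equiv.mulLeft m)
    (fun m' => ((χ m : Rˣ) : R) ^ i • (((χ m'⁻¹ : Rˣ) : R) ^ i) • powConv R A (m' : ZMod p).val f)]
  refine Finset.sum_congr rfl fun m' _ => ?_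
  rw [map_smul, powConv_units hp, Equiv.coe_mulLeft, smul_smul]
  congr 1
  rw [mul_inv, map_mul, Units.val_mul, mul_pow, ← mul_assoc, mul_comm (((χ m : Rˣ) : R) ^ i), chi_inv_mul, one_mul]

theorem proj_powConv (hp : (toConv (AlgHom.id R A)) ^ p = 1) (i : ℕ) (m : (ZMod p)ˣ) (f : A) :
    OortTate.proj R A p u χ i (powConv R A (m : ZMod p).val f) =
      ((χ m : Rˣ) : R) ^ i • OortTate.proj R A p u χ i f := by
  rw [← powConv_proj hp, proj_apply, proj_apply, map_smul, map_sum]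
  congr 1
  refine Finset.sum_congr rfl fun m' _ => ?_
  rw [map_smul, powConv_units hp, powConv_units hp, mul_comm]

theorem counit_proj (i : ℕ) (f : A) (hf : counit (R := R) f = 0) :
    counit (R := R) (OortTate.proj R A p u χ i f) = 0 := by
  rw [proj_apply, map_smul, map_sum, Finset.sum_eq_zero, smul_zero]
  intro m _
  rw [map_smul, counit_powConv, hf, smul_zero]

theorem proj_mem (hp : (toConv (AlgHom.id R A)) ^ p = 1) (i : ℕ) (f : A) (hf : counit (R := R) f = 0) :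
    OortTate.proj R A p u χ i f ∈ OortTate.eigenAug R A p χ i :=
  mem_eigenAug.mpr ⟨counit_proj i f hf, fun m => powConv_proj hp i m f⟩

theorem card_units : Fintype.card (ZMod p)ˣ = p - 1 := ZMod.card_units p

theorem proj_eq_self (hu : u * ((p - 1 : ℕ) : R) = 1) (i : ℕ) (f : A)
    (hf : ∀ m : (ZMod p)ˣ, powConv R A (m : ZMod p).val f = ((χ m : Rˣ) : R) ^ i • f) :
    OortTate.proj R A p u χ i f = f := by
  rw [proj_apply]
  have : ∀ m : (ZMod p)ˣ, (((χ m⁻¹ : Rˣ) : R) ^ i) • powConv R A (m : ZMod p).val f = f := by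
    intro m
    rw [hf, smul_smul, chi_inv_mul, one_smul]
  simp only [this]
  rw [Finset.sum_const, Finset.card_univ, card_units, ← Nat.cast_smul_eq_nsmul R, smul_smul, hu, one_smul]

theorem proj_of_mem (hu : u * ((p - 1 : ℕ) : R) = 1) (i : ℕ) {f : A} (hf : f ∈ OortTate.eigenAug R A p χ i) :
    OortTate.proj R A p u χ i f = f :=
  proj_eq_self hu i f (mem_eigenAug.mp hf).2

theorem chi_pow_pred (m : (ZMod p)ˣ) : ((χ m : Rˣ) : R) ^ (p - 1) = 1 := by
  rw [← Units.val_pow_eq_pow_val, ← map_pow, ZMod.units_pow_card_sub_one_eq_one, map_one, Units.val_one]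

theorem sum_chi_pow (hχ : ∀ m : (ZMod p)ˣ, m ≠ 1 → IsUnit ((χ m : R) - 1)) (m : (ZMod p)ˣ) :
    ∑ i : Fin (p - 1), ((χ m : Rˣ) : R) ^ (i : ℕ) = if m = 1 then ((p - 1 : ℕ) : R) else 0 := by
  split_ifs with h
  · subst h; simp
  · have h1 := mul_geom_sum ((χ m : Rˣ) : R) (p - 1)
    rw [chi_pow_pred, sub_self] at h1
    rw [Finset.sum_range] at h1
    exact (hχ m h).mul_right_eq_zero.mp h1

theorem sum_proj (hu : u * ((p - 1 : ℕ) : R) = 1)
    (hχ : ∀ m : (ZMod p)ˣ, m ≠ 1 → IsUnit ((χ m : R) - 1)) (f : A) :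
    ∑ i : Fin (p - 1), OortTate.proj R A p u χ (i : ℕ) f = f := by
  simp only [proj_apply]
  rw [← Finset.smul_sum, Finset.sum_comm]
  simp only [← Finset.sum_smul]
  have h1 : ∀ m : (ZMod p)ˣ, ∑ i : Fin (p - 1), ((χ m⁻¹ : Rˣ) : R) ^ (i : ℕ) = if m = 1 then ((p - 1 : ℕ) : R) else 0 := by
    intro m
    rw [sum_chi_pow hχ]
    simp only [inv_eq_one]
  simp only [h1, ite_smul, zero_smul]
  rw [Finset.sum_ite_eq' Finset.univ (1 : (ZMod p)ˣ)]
  simp only [Finset.mem_univ, if_true]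
  rw [powConv_units_one, smul_smul, hu, one_smul]

/-- if `i ≢ j` modulo `p - 1` there is a unit `g` such that `χ(g)^i - χ(g)^j` is a unit -/
theorem exists_isUnit (hχ : ∀ m : (ZMod p)ˣ, m ≠ 1 → IsUnit ((χ m : R) - 1)) {i j : ℕ}
    (hij : ¬ i ≡ j [MOD (p - 1)]) : ∃ g : (ZMod p)ˣ, IsUnit (((χ g : Rˣ) : R) ^ i - ((χ g : Rˣ) : R) ^ j) := by
  obtain ⟨g, hg⟩ := IsCyclic.exists_generator (α := (ZMod p)ˣ)
  have hord : orderOf g = p - 1 := by
    rw [orderOf_eq_card_of_forall_mem_zpowers hg, Nat.card_eq_fintype_card, card_units]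
  refine ⟨g, ?_⟩
  have h1 : g ^ i * (g ^ j)⁻¹ ≠ 1 := by
    intro h
    rw [mul_inv_eq_one] at h
    apply hij
    rw [← hord]
    exact (pow_eq_pow_iff_modEq).mp h
  have h2 := hχ _ h1
  have h3 : ((χ g : Rˣ) : R) ^ i - ((χ g : Rˣ) : R) ^ j =
      ((χ (g ^ i * (g ^ j)⁻¹) : Rˣ) - 1 : R) * ((χ g ^ j : Rˣ) : R) := by
    rw [sub_mul, ← Units.val_mul, map_mul, map_inv, map_pow, map_pow, inv_mul_cancel_right, one_mul,
      Units.val_pow_eq_pow_val, Units.val_pow_eq_pow_val]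
  rw [h3]
  exact h2.mul (Units.isUnit _)

theorem proj_eq_zero (hχ : ∀ m : (ZMod p)ˣ, m ≠ 1 → IsUnit ((χ m : R) - 1))
    (hp : (toConv (AlgHom.id R A)) ^ p = 1) {i j : ℕ} (hij : ¬ i ≡ j [MOD (p - 1)]) {f : A}
    (hf : ∀ m : (ZMod p)ˣ, powConv R A (m : ZMod p).val f = ((χ m : Rˣ) : R) ^ j • f) :
    OortTate.proj R A p u χ i f = 0 := by
  obtain ⟨g, hg⟩ := exists_isUnit hχ hij
  have h1 := proj_powConv (u := u) (χ := χ) hp i g f
  rw [hf, map_smul] at h1
  have h2 : (((χ g : Rˣ) : R) ^ i - ((χ g : Rˣ) : R) ^ j) • OortTate.proj R A p u χ i f = 0 := by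
    rw [sub_smul, h1, sub_self]
  exact hg.smul_eq_zero.mp h2

theorem eigenAug_congr {i j : ℕ} (hij : i ≡ j [MOD (p - 1)]) :
    OortTate.eigenAug R A p χ i = OortTate.eigenAug R A p χ j := by
  have h : ∀ m : (ZMod p)ˣ, ((χ m : Rˣ) : R) ^ i = ((χ m : Rˣ) : R) ^ j := by
    intro m
    rw [← Nat.div_add_mod i (p - 1), ← Nat.div_add_mod j (p - 1), pow_add, pow_add, pow_mul, pow_mul, chi_pow_pred,
      one_pow, one_pow, hij]
  ext f
  rw [mem_eigenAug, mem_eigenAug]
  simp only [h]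

theorem eigenAug_eq_map (hu : u * ((p - 1 : ℕ) : R) = 1)
    (hp : (toConv (AlgHom.id R A)) ^ p = 1) (i : ℕ) :
    OortTate.eigenAug R A p χ i = Submodule.map (OortTate.proj R A p u χ i)
      (LinearMap.ker (Bialgebra.counitAlgHom R A).toLinearMap) := by
  ext f
  constructor
  · intro hf
    exact ⟨f, LinearMap.mem_ker.mpr (mem_eigenAug.mp hf).1, proj_of_mem hu i hf⟩
  · rintro ⟨g, hg, rfl⟩
    exact proj_mem hp i g (LinearMap.mem_ker.mp hg)

theorem iSup_eigenAug (hu : u * ((p - 1 : ℕ) : R) = 1)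
    (hχ : ∀ m : (ZMod p)ˣ, m ≠ 1 → IsUnit ((χ m : R) - 1))
    (hp : (toConv (AlgHom.id R A)) ^ p = 1) :
    (⨆ i : Fin (p - 1), OortTate.eigenAug R A p χ (i : ℕ)) =
        LinearMap.ker (Bialgebra.counitAlgHom R A).toLinearMap := by
  apply le_antisymm
  · refine iSup_le fun i => ?_
    intro f hf
    exact LinearMap.mem_ker.mpr (mem_eigenAug.mp hf).1
  · intro f hf
    rw [← sum_proj hu hχ f]
    refine Submodule.sum_mem _ fun i _ => ?_
    exact Submodule.mem_iSup_of_mem i (proj_mem hp _ f (LinearMap.mem_ker.mp hf))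

theorem iSupIndep_eigenAug (hu : u * ((p - 1 : ℕ) : R) = 1)
    (hχ : ∀ m : (ZMod p)ˣ, m ≠ 1 → IsUnit ((χ m : R) - 1))
    (hp : (toConv (AlgHom.id R A)) ^ p = 1) :
    iSupIndep (fun i : Fin (p - 1) => OortTate.eigenAug R A p χ (i : ℕ)) := by
  intro i
  rw [Submodule.disjoint_def]
  intro f hf hf'
  have h1 : (⨆ j, ⨆ (_ : j ≠ i), OortTate.eigenAug R A p χ (j : ℕ)) ≤ LinearMap.ker (OortTate.proj R A p u χ (i : ℕ)) := by
    refine iSup_le fun j => iSup_le fun hj => ?_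
    intro g hg
    rw [LinearMap.mem_ker]
    refine proj_eq_zero hχ hp ?_ (mem_eigenAug.mp hg).2
    intro h
    apply hj
    have := Nat.ModEq.eq_of_lt_of_lt h i.2 j.2
    exact Fin.ext this.symm
  have h2 := h1 hf'
  rw [LinearMap.mem_ker, proj_of_mem hu _ hf] at h2
  exact h2

theorem mul_mem {i j : ℕ} {f g : A} (hf : f ∈ OortTate.eigenAug R A p χ i) (hg : g ∈ OortTate.eigenAug R A p χ j) :
    f * g ∈ OortTate.eigenAug R A p χ (i + j) := by
  rw [mem_eigenAug] at hf hg ⊢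
  refine ⟨by rw [Bialgebra.counit_mul, hf.1, zero_mul], fun m => ?_⟩
  rw [map_mul, hf.2, hg.2, smul_mul_smul_comm, pow_add]

theorem pow_mem {i : ℕ} {f : A} (hf : f ∈ OortTate.eigenAug R A p χ i) (t : ℕ) (ht : 1 ≤ t) :
    f ^ t ∈ OortTate.eigenAug R A p χ (i * t) := by
  induction t, ht using Nat.le_induction with
  | base => simpa using hf
  | succ n hn ih =>
    rw [pow_succ, Nat.mul_succ]
    exact mul_mem ih hf

end eig

end K956.Eig
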