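import Groth.Agent.OortTate.K956.FieldStruct
import Groth.Agent.OortTate.K956.Eig
import Groth.Agent.OortTate.K956.Comm
import Groth.Agent.OortTate.K956.Deligne

/-!
# The first eigenspace over an algebraically closed field
-/

set_option autoImplicit false
universe u

open WithConv Coalgebra TensorProduct SGA3b
open Groth.Agent.Sga3C.HopfPow

namespace K956.FieldEig

section gen

variable {R : Type u} [CommRing R] {A : Type u} [CommRing A] [HopfAlgebra R A] [Module.Finite R A]
  [Module.Projective R A]

/-- order `p` implies killed by `p` -/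
theorem conv_pow_eq_one (p : ℕ) [Fact p.Prime] (hrk : ∀ q : PrimeSpectrum R, Module.rankAtStalk A q = p) :
    (toConv (AlgHom.id R A)) ^ p = 1 := by
  have h1 : Coalgebra.IsCocomm R A := Comm.isCocomm R p A hrk
  exact Deligne.id_pow_eq_one R A p hrk

end gen

section field

variable (K : Type u) [Field K] (A : Type u) [CommRing A] [HopfAlgebra K A] [Module.Finite K A]
  (p : ℕ) [hp : Fact p.Prime]

omit [Module.Finite K A] hp in
theorem rankAtStalk_field (hA : Module.finrank K A = p) (q : PrimeSpectrum K) : Module.rankAtStalk A q = p := by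
  rw [Module.rankAtStalk_eq_finrank_of_free]
  exact hA

omit [Module.Finite K A] in
/-- an ε-derivation sends `[m] x` to `m δ(x)` -/
theorem der_powConv (δ : A →ₗ[K] K)
    (hδ : ∀ a b : A, δ (a * b) = counit (R := K) a * δ b + δ a * counit (R := K) b) (m : ℕ) (x : A) :
    δ (powConv K A m x) = (m : K) * δ x := by
  have h1 : δ 1 = 0 := by
    have := hδ 1 1
    rw [mul_one, Bialgebra.counit_one, one_mul, mul_one] at this
    have h2 : δ 1 + 0 = δ 1 + δ 1 := by rw [add_zero]; exact this
    exact (add_left_cancel h2).symm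
  induction m generalizing x with
  | zero =>
    rw [Groth.Agent.Sga3A.PowConv.powConv_zero_apply, Algebra.algebraMap_eq_smul_one, map_smul, h1]
    simp
  | succ m ih =>
    rw [Groth.Agent.Sga3A.PowConv.powConv_succ_apply]
    have key : ∀ t : A ⊗[K] A, δ (Algebra.TensorProduct.lift (powConv K A m) (AlgHom.id K A) (fun _ _ => .all _ _) t) =
        (m : K) * δ (TensorProduct.rid K A (LinearMap.lTensor A (counit (R := K)) t)) +
          δ (TensorProduct.lid K A (LinearMap.rTensor A (counit (R := K)) t)) := by
      intro t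
      induction t with
      | zero => simp
      | tmul a b =>
        rw [Algebra.TensorProduct.lift_tmul, AlgHom.id_apply, hδ, Eig.counit_powConv, ih]
        simp only [LinearMap.lTensor_tmul, LinearMap.rTensor_tmul, TensorProduct.rid_tmul, TensorProduct.lid_tmul,
          map_smul, smul_eq_mul]
        ring
      | add a b ha hb =>
        simp only [map_add, mul_add, ha, hb]
        ring
    rw [key, Coalgebra.lTensor_counit_comul, Coalgebra.rTensor_counit_comul]
    simp only [TensorProduct.rid_tmul, TensorProduct.lid_tmul, one_smul]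
    push_cast
    ring

variable [IsAlgClosed K]

/-- Over an algebraically closed field the first eigenspace contains an element `y` with `y ^ (p-1) ≠ 0`. -/
theorem exists_mem_pow_ne_zero (u : K) (hu : u * ((p - 1 : ℕ) : K) = 1) (χ : (ZMod p)ˣ →* Kˣ)
    (hχp : ∀ m : (ZMod p)ˣ, ((χ m : Kˣ) : K) - (((m : ZMod p).val : ℕ) : K) ∈ Ideal.span ({(p : K)} : Set K))
    (hA : Module.finrank K A = p) :
    ∃ y ∈ OortTate.eigenAug K A p χ 1, ∀ t ≤ p - 1, y ^ t ≠ 0 := by
  have hkill : (toConv (AlgHom.id K A)) ^ p = 1 := conv_pow_eq_one p (rankAtStalk_field K A p hA)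
  have hnt : Nontrivial A := by
    have : 0 < Module.finrank K A := by rw [hA]; exact hp.out.pos
    exact Module.nontrivial_of_finrank_pos this
  rcases FieldStruct.dichotomy K A p hA with ⟨hcard, hred⟩ | ⟨hchar, hnil⟩
  · -- the reduced case
    have hcyc : IsCyclic (WithConv (A →ₐ[K] K)) := isCyclic_of_prime_card hcard
    obtain ⟨g, hg⟩ := hcyc.exists_generator
    have hord : orderOf g = p := by rw [orderOf_eq_card_of_forall_mem_zpowers hg, hcard]
    -- characters indexed by `Option (ZMod p)ˣ`
    let c : Option (ZMod p)ˣ → (A →ₐ[K] K) := fun o => o.elim (Bialgebra.counitAlgHom K A) (fun m => (g ^ (m : ZMod p).val).ofConv)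
    have hcount : (g ^ 0).ofConv = Bialgebra.counitAlgHom K A := by
      rw [pow_zero]
      rfl
    have hval : ∀ m : (ZMod p)ˣ, (m : ZMod p).val ≠ 0 := by
      intro m h
      rw [ZMod.val_eq_zero] at h
      exact m.ne_zero h
    have hc : Function.Injective c := by
      intro o o' h
      have hinj : ∀ i j : ℕ, i < p → j < p → g ^ i = g ^ j → i = j := by
        intro i j hi hj hij
        apply pow_injOn_Iio_orderOf (x := g) _ _ hij
        · rw [hord]; exact hi
        · rw [hord]; exact hj
      rcases o with _ | m <;> rcases o' with _ | m'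
      · rfl
      · exfalso
        have h1 : g ^ 0 = g ^ (m' : ZMod p).val := by
          apply WithConv.ofConv_injective
          rw [hcount]
          exact h
        exact hval m' (hinj _ _ hp.out.pos (ZMod.val_lt _) h1).symm
      · exfalso
        have h1 : g ^ (m : ZMod p).val = g ^ 0 := by
          apply WithConv.ofConv_injective
          rw [hcount]
          exact h
        exact hval m (hinj _ _ (ZMod.val_lt _) hp.out.pos h1)
      · have h1 : g ^ (m : ZMod p).val = g ^ (m' : ZMod p).val := WithConv.ofConv_injective h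
        have h2 := hinj _ _ (ZMod.val_lt _) (ZMod.val_lt _) h1
        have h3 : m = m' := Units.ext (ZMod.val_injective p h2)
        rw [h3]
    have hli : LinearIndependent K (fun o => (c o).toLinearMap) :=
      (linearIndependent_toLinearMap K A K).comp c hc
    -- some element of the augmentation ideal has nonzero projection
    have hex : ∃ f : A, OortTate.proj K A p u χ 1 (f - algebraMap K A (counit (R := K) f)) ≠ 0 := by
      by_contra hne
      push Not at hne
      rw [Fintype.linearIndependent_iff] at hli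
      have hu0 : u ≠ 0 := by
        rintro rfl
        rw [zero_mul] at hu
        exact zero_ne_one hu
      have h1 := hli (fun o => o.elim (-∑ m : (ZMod p)ˣ, ((χ m⁻¹ : Kˣ) : K)) (fun m => ((χ m⁻¹ : Kˣ) : K))) (by
        apply LinearMap.ext
        intro f
        have h2 := congrArg g.ofConv (hne f)
        rw [map_zero, Eig.proj_apply, map_smul, map_sum, smul_eq_mul, mul_eq_zero] at h2
        have h3 := h2.resolve_left hu0
        rw [LinearMap.sum_apply, Fintype.sum_option, LinearMap.zero_apply, ← h3]
        have h4 : ∀ m : (ZMod p)ˣ, g.ofConv ((((χ m⁻¹ : Kˣ) : K) ^ 1) • powConv K A (m : ZMod p).val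
            (f - algebraMap K A (counit (R := K) f))) =
            ((χ m⁻¹ : Kˣ) : K) * (g ^ (m : ZMod p).val).ofConv f - ((χ m⁻¹ : Kˣ) : K) * counit (R := K) f := by
          intro m
          have h5 : g.ofConv.comp (powConv K A (m : ZMod p).val) = (g ^ (m : ZMod p).val).ofConv := by
            have := Eig.comp_convPow g.ofConv (toConv (AlgHom.id K A)) (m : ZMod p).val
            rw [show (toConv (g.ofConv.comp (toConv (AlgHom.id K A)).ofConv)) = g from rfl] at this
            exact this
          have h6 := AlgHom.congr_fun h5 f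
          rw [pow_one, map_smul, map_sub, AlgHom.commutes, map_sub, smul_eq_mul, mul_sub]
          congr 1
          · rw [← h6]; rfl
          · congr 1
            exact AlgHom.commutes g.ofConv _
        simp only [h4]
        rw [Finset.sum_sub_distrib, ← Finset.sum_mul, add_comm, sub_eq_add_neg, ← neg_mul]
        rfl)
      have h2 := h1 (some 1)
      have h3 : ((χ (1 : (ZMod p)ˣ)⁻¹ : Kˣ) : K) = 0 := h2
      exact (χ _).ne_zero h3
    obtain ⟨f, hf⟩ := hex
    refine ⟨_, Eig.proj_mem (u := u) hkill 1 (f - algebraMap K A (counit (R := K) f)) (by simp), ?_⟩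
    intro t _ ht
    apply hf
    have h1 : OortTate.proj K A p u χ 1 (f - algebraMap K A (counit (R := K) f)) ∈ nilradical A :=
      mem_nilradical.mpr ⟨t, ht⟩
    rw [hred] at h1
    exact h1
  · -- the local case
    obtain ⟨x, δ, hx, hδ, hδx⟩ := FieldStruct.exists_der hnil (FieldStruct.augIdeal_ne_bot K A p hA)
    have hy0 := Eig.counit_proj (p := p) (u := u) (χ := χ) 1 x hx
    have hδy : δ (OortTate.proj K A p u χ 1 x) = 1 := by
      rw [Eig.proj_apply, map_smul, map_sum]
      have h1 : ∀ m : (ZMod p)ˣ, δ ((((χ m⁻¹ : Kˣ) : K) ^ 1) • powConv K A (m : ZMod p).val x) = 1 := by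
        intro m
        rw [map_smul, der_powConv K A δ hδ, hδx, mul_one, smul_eq_mul]
        have h2 := hχp m
        have h3 : (p : K) = 0 := CharP.cast_eq_zero K p
        rw [h3, Ideal.span_singleton_zero, Ideal.mem_bot, sub_eq_zero] at h2
        have h4 := Eig.chi_inv_mul (χ := χ) m 1
        rw [pow_one ((χ m : Kˣ) : K), h2] at h4
        exact h4
      simp only [h1]
      rw [Finset.sum_const, Finset.card_univ, Eig.card_units, nsmul_eq_mul, mul_one, smul_eq_mul, hu]
    have hli := (FieldStruct.linearIndependent_pow_aux p δ hδ _ hy0 hδy).2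
    refine ⟨_, Eig.proj_mem (u := u) hkill 1 x hx, ?_⟩
    intro t ht
    have hp1 := hp.out.one_lt
    exact hli.ne_zero ⟨t, by omega⟩

variable {K A p}

omit [IsAlgClosed K] [Module.Finite K A] in
/-- the powers of `y` form a basis -/
theorem linearIndependent_pow {u : K} {χ : (ZMod p)ˣ →* Kˣ}
    (hu : u * ((p - 1 : ℕ) : K) = 1)
    (hχ : ∀ m : (ZMod p)ˣ, m ≠ 1 → IsUnit ((χ m : K) - 1))
    (hkill : (toConv (AlgHom.id K A)) ^ p = 1)
    {y : A} (hy : y ∈ OortTate.eigenAug K A p χ 1) (hy0 : ∀ t ≤ p - 1, y ^ t ≠ 0) :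
    LinearIndependent K (fun i : Fin p => y ^ (i : ℕ)) := by
  have hp1 := hp.out.one_lt
  have hmem : ∀ t, 1 ≤ t → y ^ t ∈ OortTate.eigenAug K A p χ t := by
    intro t ht
    have := Eig.pow_mem hy t ht
    rwa [one_mul] at this
  rw [Fintype.linearIndependent_iff]
  intro g hg
  have hε := (Eig.mem_eigenAug.mp hy).1
  -- the coefficient of 1
  have h0 : g ⟨0, hp.out.pos⟩ = 0 := by
    have h1 := congrArg (counit (R := K)) hg
    rw [map_zero, map_sum, Finset.sum_eq_single ⟨0, hp.out.pos⟩] at h1
    · simpa using h1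
    · intro j _ hj
      have : (j : ℕ) ≠ 0 := fun h => hj (Fin.ext h)
      rw [map_smul, Bialgebra.counit_pow, hε, zero_pow this, smul_zero]
    · intro h; exact absurd (Finset.mem_univ _) h
  intro i
  by_cases hi : (i : ℕ) = 0
  · have : i = ⟨0, hp.out.pos⟩ := Fin.ext hi
    rw [this, h0]
  · have h1 := congrArg (OortTate.proj K A p u χ (i : ℕ)) hg
    rw [map_zero, map_sum, Finset.sum_eq_single i] at h1
    · rw [map_smul, Eig.proj_of_mem hu _ (hmem _ (Nat.one_le_iff_ne_zero.mpr hi))] at h1
      exact (smul_eq_zero.mp h1).resolve_right (hy0 _ (by have := i.2; omega))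
    · intro j _ hj
      by_cases hj0 : (j : ℕ) = 0
      · have : j = ⟨0, hp.out.pos⟩ := Fin.ext hj0
        rw [this, h0, zero_smul, map_zero]
      · rw [map_smul, Eig.proj_eq_zero hχ hkill (j := (j : ℕ)) ?_
          (Eig.mem_eigenAug.mp (hmem _ (Nat.one_le_iff_ne_zero.mpr hj0))).2, smul_zero]
        intro hmod
        apply hj
        apply Fin.ext
        have hi2 := i.2
        have hj2 := j.2
        have h3 : (i : ℕ) - 1 ≡ (j : ℕ) - 1 [MOD (p - 1)] := by
          apply Nat.ModEq.add_right_cancel' 1
          rwa [Nat.sub_add_cancel (by omega), Nat.sub_add_cancel (by omega)]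
        have h4 := Nat.ModEq.eq_of_lt_of_lt h3 (by omega) (by omega)
        omega
    · intro h; exact absurd (Finset.mem_univ _) h

omit [IsAlgClosed K] in
theorem eigenAug_eq_span {u : K} {χ : (ZMod p)ˣ →* Kˣ}
    (hu : u * ((p - 1 : ℕ) : K) = 1)
    (hχ : ∀ m : (ZMod p)ˣ, m ≠ 1 → IsUnit ((χ m : K) - 1))
    (hA : Module.finrank K A = p)
    {y : A} (hy : y ∈ OortTate.eigenAug K A p χ 1) (hy0 : ∀ t ≤ p - 1, y ^ t ≠ 0) (t : ℕ) (ht1 : 1 ≤ t)
    (htp : t ≤ p - 1) : OortTate.eigenAug K A p χ t = Submodule.span K {y ^ t} := by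
  have hkill : (toConv (AlgHom.id K A)) ^ p = 1 := conv_pow_eq_one p (rankAtStalk_field K A p hA)
  have hp1 := hp.out.one_lt
  have hmem : ∀ t, 1 ≤ t → y ^ t ∈ OortTate.eigenAug K A p χ t := by
    intro t ht
    have := Eig.pow_mem hy t ht
    rwa [one_mul] at this
  have hli := linearIndependent_pow hu hχ hkill hy hy0
  apply le_antisymm
  · intro a ha
    have hspan := hli.span_eq_top_of_card_eq_finrank (by rw [Fintype.card_fin, hA])
    have ha' : a ∈ Submodule.span K (Set.range (fun i : Fin p => y ^ (i : ℕ))) := by rw [hspan]; trivial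
    rw [Submodule.mem_span_range_iff_exists_fun] at ha'
    obtain ⟨c, hc⟩ := ha'
    have hε := (Eig.mem_eigenAug.mp hy).1
    have h0 : c ⟨0, hp.out.pos⟩ = 0 := by
      have h1 := congrArg (counit (R := K)) hc
      rw [(Eig.mem_eigenAug.mp ha).1, map_sum, Finset.sum_eq_single ⟨0, hp.out.pos⟩] at h1
      · simpa using h1
      · intro j _ hj
        have : (j : ℕ) ≠ 0 := fun h => hj (Fin.ext h)
        rw [map_smul, Bialgebra.counit_pow, hε, zero_pow this, smul_zero]
      · intro h; exact absurd (Finset.mem_univ _) h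
    have h1 := congrArg (OortTate.proj K A p u χ t) hc
    rw [Eig.proj_of_mem hu _ ha, map_sum, Finset.sum_eq_single ⟨t, by omega⟩] at h1
    · rw [map_smul, Eig.proj_of_mem hu _ (hmem _ ht1)] at h1
      rw [Submodule.mem_span_singleton]
      exact ⟨_, h1⟩
    · intro j _ hj
      by_cases hj0 : (j : ℕ) = 0
      · have : j = ⟨0, hp.out.pos⟩ := Fin.ext hj0
        rw [this, h0, zero_smul, map_zero]
      · rw [map_smul, Eig.proj_eq_zero hχ hkill (j := (j : ℕ)) ?_
          (Eig.mem_eigenAug.mp (hmem _ (Nat.one_le_iff_ne_zero.mpr hj0))).2, smul_zero]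
        intro hmod
        apply hj
        apply Fin.ext
        have hj2 := j.2
        have h3 : t - 1 ≡ (j : ℕ) - 1 [MOD (p - 1)] := by
          apply Nat.ModEq.add_right_cancel' 1
          rwa [Nat.sub_add_cancel (by omega), Nat.sub_add_cancel (by omega)]
        have h4 := Nat.ModEq.eq_of_lt_of_lt h3 (by omega) (by omega)
        change (j : ℕ) = t
        omega
    · intro h; exact absurd (Finset.mem_univ _) h
  · rw [Submodule.span_singleton_le_iff_mem]
    exact hmem t ht1

end field

end K956.FieldEig
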