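import Groth.Agent.OortTate.K956.Rank
import Groth.Agent.OortTate.K956.DualEig

/-!
# Consequences of a generator of the first eigenspace; the group algebra of a cyclic group of order `p`
-/

set_option autoImplicit false
universe u

open WithConv Coalgebra TensorProduct SGA3b

namespace K956.Gen

variable {R : Type u} [CommRing R] {A : Type u} [CommRing A] [HopfAlgebra R A] [Module.Finite R A] [Module.Projective R A]
variable {p : ℕ} [hpF : Fact p.Prime] {u : R} {χ : (ZMod p)ˣ →* Rˣ}

omit [Module.Finite R A] [Module.Projective R A] in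
/-- A submodule containing `1` and all the eigenspaces is everything. -/
theorem eq_top_of_le (hu : u * ((p - 1 : ℕ) : R) = 1)
    (hχ : ∀ m : (ZMod p)ˣ, m ≠ 1 → IsUnit ((χ m : R) - 1))
    (hkill : (toConv (AlgHom.id R A)) ^ p = 1)
    (N : Submodule R A) (h1 : (1 : A) ∈ N) (h : ∀ t, 1 ≤ t → t ≤ p - 1 → OortTate.eigenAug R A p χ t ≤ N) :
    N = ⊤ := by
  rw [eq_top_iff]
  intro a _
  have e1 : a = counit (R := R) a • (1 : A) + (a - algebraMap R A (counit (R := R) a)) := by
    rw [Algebra.algebraMap_eq_smul_one]; module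
  rw [e1]
  refine add_mem (N.smul_mem _ h1) ?_
  have h2 : a - algebraMap R A (counit (R := R) a) ∈ LinearMap.ker (Bialgebra.counitAlgHom R A).toLinearMap := by
    rw [LinearMap.mem_ker]; simp
  rw [← Eig.iSup_eigenAug hu hχ hkill] at h2
  have h3 : (⨆ i : Fin (p - 1), OortTate.eigenAug R A p χ (i : ℕ)) ≤ N := by
    refine iSup_le fun i => ?_
    obtain ⟨t, ht, htp, hit⟩ := Rank.exists_modEq p (i : ℕ)
    rw [Eig.eigenAug_congr hit]
    exact h t ht htp
  exact h3 h2

theorem eigenAug_eq_span_pow (hu : u * ((p - 1 : ℕ) : R) = 1)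
    (hχ : ∀ m : (ZMod p)ˣ, m ≠ 1 → IsUnit ((χ m : R) - 1))
    (hχp : ∀ m : (ZMod p)ˣ, ((χ m : Rˣ) : R) - (((m : ZMod p).val : ℕ) : R) ∈ Ideal.span ({(p : R)} : Set R))
    (hrk : ∀ q : PrimeSpectrum R, Module.rankAtStalk A q = p)
    {y : A} (hy : Submodule.span R {y} = OortTate.eigenAug R A p χ 1) (t : ℕ) (ht : 1 ≤ t) (htp : t ≤ p - 1) :
    OortTate.eigenAug R A p χ t = Submodule.span R {y ^ t} := by
  rw [← Rank.pow_eq hu hχ hχp hrk t ht htp, ← hy, Submodule.span_pow, Set.singleton_pow]

theorem adjoin_eq_top (hu : u * ((p - 1 : ℕ) : R) = 1)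
    (hχ : ∀ m : (ZMod p)ˣ, m ≠ 1 → IsUnit ((χ m : R) - 1))
    (hχp : ∀ m : (ZMod p)ˣ, ((χ m : Rˣ) : R) - (((m : ZMod p).val : ℕ) : R) ∈ Ideal.span ({(p : R)} : Set R))
    (hrk : ∀ q : PrimeSpectrum R, Module.rankAtStalk A q = p)
    {y : A} (hy : Submodule.span R {y} = OortTate.eigenAug R A p χ 1) :
    Algebra.adjoin R ({y} : Set A) = ⊤ := by
  have hkill : (toConv (AlgHom.id R A)) ^ p = 1 := FieldEig.conv_pow_eq_one p hrk
  rw [← Algebra.toSubmodule_eq_top]
  apply eq_top_of_le hu hχ hkill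
  · exact one_mem (Algebra.adjoin R ({y} : Set A))
  · intro t ht htp
    rw [eigenAug_eq_span_pow hu hχ hχp hrk hy t ht htp, Submodule.span_singleton_le_iff_mem]
    have hm : y ∈ Algebra.adjoin R ({y} : Set A) := Algebra.subset_adjoin (Set.mem_singleton y)
    exact pow_mem hm t

/-- a generator of an eigenspace has trivial annihilator -/
theorem eq_zero_of_smul (hu : u * ((p - 1 : ℕ) : R) = 1)
    (hχ : ∀ m : (ZMod p)ˣ, m ≠ 1 → IsUnit ((χ m : R) - 1))
    (hχp : ∀ m : (ZMod p)ˣ, ((χ m : Rˣ) : R) - (((m : ZMod p).val : ℕ) : R) ∈ Ideal.span ({(p : R)} : Set R))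
    (hrk : ∀ q : PrimeSpectrum R, Module.rankAtStalk A q = p) {i : ℕ}
    {y : A} (hy : Submodule.span R {y} = OortTate.eigenAug R A p χ i) (r : R) (hr : r • y = 0) : r = 0 := by
  have hkill : (toConv (AlgHom.id R A)) ^ p = 1 := FieldEig.conv_pow_eq_one p hrk
  have : Module.Finite R (OortTate.eigenAug R A p χ i) := BC.finite_eigenAug hu hkill i
  have : Module.Projective R (OortTate.eigenAug R A p χ i) := BC.projective_eigenAug hu hkill i
  apply Inv.eq_zero_of_smul_eq_zero (Rank.rankAtStalk_eigenAug (A := A) hu hχ hχp hrk i)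
  intro m
  apply Subtype.ext
  have h1 : (m : A) ∈ Submodule.span R {y} := by rw [hy]; exact m.2
  obtain ⟨c, hc⟩ := Submodule.mem_span_singleton.mp h1
  change r • (m : A) = 0
  rw [← hc, smul_comm, hr, smul_zero]

section mu

variable (R p)

/-- the group algebra of the cyclic group of order `p` -/
abbrev Bmu : Type u := MonoidAlgebra R (Multiplicative (ZMod p))

theorem rankAtStalk_mu (q : PrimeSpectrum R) : Module.rankAtStalk (Bmu R p) q = p := by
  have hnt : Nontrivial R := q.nontrivial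
  rw [Module.rankAtStalk_eq_finrank_of_free]
  change Module.finrank R (Bmu R p) = p
  have h1 : Module.finrank R (Bmu R p) = Fintype.card (Multiplicative (ZMod p)) :=
    Module.finrank_eq_card_basis (MonoidAlgebra.basis (Multiplicative (ZMod p)) R)
  rw [h1, Fintype.card_multiplicative]
  exact ZMod.card p

variable {R p}

theorem powConv_single (n : ℕ) (m : Multiplicative (ZMod p)) :
    powConv R (Bmu R p) n (MonoidAlgebra.single m 1) = MonoidAlgebra.single (m ^ n) 1 := by
  induction n generalizing m with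
  | zero =>
    rw [Groth.Agent.Sga3A.PowConv.powConv_zero_apply]
    simp
  | succ n ih =>
    rw [Groth.Agent.Sga3A.PowConv.powConv_succ_apply]
    simp [ih, MonoidAlgebra.single_mul_single, pow_succ]

theorem powConv_muT (n : ℕ) : powConv R (Bmu R p) n (OortTate.muT R p) =
    MonoidAlgebra.of R (Multiplicative (ZMod p)) (Multiplicative.ofAdd (n : ZMod p)) := by
  rw [OortTate.muT, MonoidAlgebra.of_apply, MonoidAlgebra.of_apply, powConv_single]
  congr 1
  rw [← ofAdd_nsmul, nsmul_eq_mul, mul_one]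

theorem kill_mu : (toConv (AlgHom.id R (Bmu R p))) ^ p = 1 :=
  FieldEig.conv_pow_eq_one p (rankAtStalk_mu R p)

theorem counit_muT : counit (R := R) (OortTate.muT R p - 1 : Bmu R p) = 0 := by
  rw [OortTate.muT, MonoidAlgebra.of_apply]
  simp

theorem ygen_mem (i : ℕ) : OortTate.ygen R p u χ i ∈ OortTate.eigenAug R (Bmu R p) p χ i :=
  Eig.proj_mem kill_mu i _ counit_muT

/-- the augmentation ideal is spanned by the `T^m - 1` -/
theorem ker_counit_mu_le (N : Submodule R (Bmu R p))
    (h : ∀ m : (ZMod p)ˣ, powConv R (Bmu R p) (m : ZMod p).val (OortTate.muT R p - 1) ∈ N) :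
    LinearMap.ker (Bialgebra.counitAlgHom R (Bmu R p)).toLinearMap ≤ N := by
  have key : ∀ f : Bmu R p, f - algebraMap R (Bmu R p) (counit (R := R) f) ∈ N := by
    intro f
    induction f using MonoidAlgebra.induction_linear with
    | zero => simp
    | add x y hx hy =>
      have : x + y - algebraMap R (Bmu R p) (counit (R := R) (x + y)) =
        (x - algebraMap R (Bmu R p) (counit (R := R) x)) + (y - algebraMap R (Bmu R p) (counit (R := R) y)) := by
        rw [map_add, map_add]; ring
      rw [this]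
      exact add_mem hx hy
    | single m r =>
      have e1 : (MonoidAlgebra.single m r : Bmu R p) = r • MonoidAlgebra.of R _ m := by
        rw [MonoidAlgebra.of_apply]; simp
      have e2 : counit (R := R) (MonoidAlgebra.single m r : Bmu R p) = r := by simp
      rw [e2, e1, Algebra.algebraMap_eq_smul_one, ← smul_sub]
      apply N.smul_mem
      by_cases hm : m = 1
      · rw [hm, map_one, sub_self]; exact zero_mem _
      · have hm' : Multiplicative.toAdd m ≠ 0 := fun h => hm (by rw [← ofAdd_toAdd m, h, ofAdd_zero])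
        have h1 := h (Units.mk0 (Multiplicative.toAdd m) hm')
        rw [map_sub, map_one, powConv_muT, Units.val_mk0, ZMod.natCast_zmod_val, ofAdd_toAdd] at h1
        exact h1
  intro f hf
  have h1 := key f
  have h2 : counit (R := R) f = 0 := LinearMap.mem_ker.mp hf
  rwa [h2, map_zero, sub_zero] at h1

theorem span_ygen (hu : u * ((p - 1 : ℕ) : R) = 1) (i : ℕ) :
    Submodule.span R {OortTate.ygen R p u χ i} = OortTate.eigenAug R (Bmu R p) p χ i := by
  apply le_antisymm
  · rw [Submodule.span_singleton_le_iff_mem]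
    exact ygen_mem i
  · rw [Eig.eigenAug_eq_map hu kill_mu, Submodule.map_le_iff_le_comap]
    apply ker_counit_mu_le
    intro m
    rw [Submodule.mem_comap, Eig.proj_powConv kill_mu]
    exact Submodule.smul_mem _ _ (Submodule.mem_span_singleton_self _)

/-- all of S18473 -/
theorem main_mu (hu : u * ((p - 1 : ℕ) : R) = 1)
    (hχ : ∀ m : (ZMod p)ˣ, m ≠ 1 → IsUnit ((χ m : R) - 1))
    (hχp : ∀ m : (ZMod p)ˣ, ((χ m : Rˣ) : R) - (((m : ZMod p).val : ℕ) : R) ∈ Ideal.span ({(p : R)} : Set R)) :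
    LinearIndependent R (fun i : Fin (p - 1) => OortTate.ygen R p u χ (i : ℕ)) ∧
      Submodule.span R (Set.range (fun i : Fin (p - 1) => OortTate.ygen R p u χ (i : ℕ))) =
        LinearMap.ker (Bialgebra.counitAlgHom R (Bmu R p)).toLinearMap ∧
      Algebra.adjoin R ({OortTate.ygen R p u χ 1} : Set (Bmu R p)) = ⊤ ∧
      ∃! w : R, OortTate.ygen R p u χ 1 ^ p = w • OortTate.ygen R p u χ 1 := by
  have hp1 := hpF.out.one_lt
  refine ⟨?_, ?_, adjoin_eq_top hu hχ hχp (rankAtStalk_mu R p) (span_ygen hu 1), ?_⟩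
  · rw [Fintype.linearIndependent_iff]
    intro c hc j
    have h1 := congrArg (OortTate.proj R (Bmu R p) p u χ (j : ℕ)) hc
    rw [map_zero, map_sum, Finset.sum_eq_single j] at h1
    · rw [map_smul, Eig.proj_of_mem hu _ (ygen_mem _)] at h1
      exact eq_zero_of_smul hu hχ hχp (rankAtStalk_mu R p) (span_ygen hu _) _ h1
    · intro i _ hij
      rw [map_smul, Eig.proj_eq_zero hχ kill_mu (j := (i : ℕ)) ?_ (Eig.mem_eigenAug.mp (ygen_mem _)).2, smul_zero]
      intro hmod
      exact hij (Fin.ext (Nat.ModEq.eq_of_lt_of_lt hmod j.2 i.2).symm)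
    · intro h; exact absurd (Finset.mem_univ _) h
  · rw [← Eig.iSup_eigenAug hu hχ kill_mu]
    apply le_antisymm
    · rw [Submodule.span_le]
      rintro _ ⟨i, rfl⟩
      exact Submodule.mem_iSup_of_mem i (ygen_mem _)
    · refine iSup_le fun i => ?_
      rw [← span_ygen hu, Submodule.span_singleton_le_iff_mem]
      exact Submodule.subset_span ⟨i, rfl⟩
  · have h1 : OortTate.ygen R p u χ 1 ^ p ∈ OortTate.eigenAug R (Bmu R p) p χ 1 := by
      have h2 := Eig.pow_mem (ygen_mem (u := u) (χ := χ) (R := R) (p := p) 1) p (by omega)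
      rw [one_mul] at h2
      have h3 : p ≡ 1 [MOD (p - 1)] := by
        have h4 : (1 + (p - 1)) % (p - 1) = 1 % (p - 1) := Nat.add_mod_right 1 (p - 1)
        have h5 : 1 + (p - 1) = p := by omega
        rw [h5] at h4
        exact h4
      rwa [Eig.eigenAug_congr h3] at h2
    rw [← span_ygen hu, Submodule.mem_span_singleton] at h1
    obtain ⟨w, hw⟩ := h1
    refine ⟨w, hw.symm, ?_⟩
    intro w' hw'
    rw [← sub_eq_zero]
    apply eq_zero_of_smul hu hχ hχp (rankAtStalk_mu R p) (span_ygen hu 1)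
    rw [sub_smul, hw, ← hw', sub_self]

end mu

end K956.Gen
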