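import Groth.Agent.Sga4B.InvLocal
import Mathlib.RingTheory.Spectrum.Prime.FreeLocus
import Mathlib.RingTheory.LocalProperties.Submodule
import Mathlib.RingTheory.LocalRing.Module
import Mathlib.Algebra.Module.Projective
import Mathlib.RingTheory.PicardGroup

/-!
# Finite projective modules of rank one are invertible
-/

set_option autoImplicit false
universe u v

open TensorProduct

namespace K956.Inv

variable {R : Type u} [CommRing R] {M : Type v} [AddCommGroup M] [Module R M]

/-- dual basis lemma -/
theorem exists_dual_basis (R : Type u) [CommRing R] (M : Type v) [AddCommGroup M] [Module R M]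
    [Module.Finite R M] [Module.Projective R M] :
    ∃ (n : ℕ) (x : Fin n → M) (ξ : Fin n → Module.Dual R M), ∀ m : M, ∑ k, ξ k m • x k = m := by
  obtain ⟨n, f, hf⟩ := Module.Finite.exists_fin' R M
  obtain ⟨g, hg⟩ := Module.projective_lifting_property f LinearMap.id hf
  refine ⟨n, fun k => f (Pi.single k 1), fun k => (LinearMap.proj k).comp g, fun m => ?_⟩
  have h1 : f (g m) = m := LinearMap.congr_fun hg m
  have h2 : g m = ∑ k, (g m k) • (Pi.single k (1 : R) : Fin n → R) := by
    funext j
    simp [Finset.sum_apply, Pi.single_apply]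
  conv_rhs => rw [← h1, h2, map_sum]
  refine Finset.sum_congr rfl fun k _ => ?_
  rw [map_smul]
  rfl

section rank1

variable [Module.Finite R M] [Module.Projective R M] (h : ∀ q : PrimeSpectrum R, Module.rankAtStalk M q = 1)

include h in
theorem local_finrank (P : Ideal R) [P.IsPrime] :
    Module.finrank (Localization.AtPrime P) (Localization.AtPrime P ⊗[R] M) = 1 := by
  let S := Localization.AtPrime P
  have hfree : Module.Free S (S ⊗[R] M) := Module.free_of_flat_of_isLocalRing
  have h1 := Module.rankAtStalk_eq_finrank_of_free (R := S) (M := S ⊗[R] M)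
  have h2 := congrFun h1 (IsLocalRing.closedPoint S)
  rw [Module.rankAtStalk_baseChange, h] at h2
  exact h2.symm

include h in
theorem symm_of_rank_one (φ : Module.Dual R M) (a b : M) : φ a • b = φ b • a := by
  refine Module.eq_of_localization_maximal (R := R) (M := M) (fun P _ => Localization.AtPrime P ⊗[R] M)
    (fun P _ => TensorProduct.mk R (Localization.AtPrime P) M 1) _ _ (fun P hP => ?_)
  let S := Localization.AtPrime P
  have hfree : Module.Free S (S ⊗[R] M) := Module.free_of_flat_of_isLocalRing
  let e : Module.Basis (Fin 1) S (S ⊗[R] M) := Module.finBasisOfFinrankEq S (S ⊗[R] M) (local_finrank h P)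
  let φ' : S ⊗[R] M →ₗ[S] S := (AlgebraTensorModule.rid R S S).toLinearMap ∘ₗ (φ.baseChange S)
  have hφ' : ∀ m : M, φ' (1 ⊗ₜ m) = algebraMap R S (φ m) := by
    intro m
    simp [φ', Algebra.algebraMap_eq_smul_one]
  have hexp : ∀ v : S ⊗[R] M, v = e.repr v 0 • e 0 := by
    intro v
    conv_lhs => rw [← e.sum_repr v]
    simp
  have key : ∀ v w : S ⊗[R] M, φ' v • w = φ' w • v := by
    intro v w
    rw [hexp v, hexp w, map_smul, map_smul, smul_smul, smul_smul, smul_eq_mul, smul_eq_mul]
    congr 1
    ring
  change (1 : S) ⊗ₜ[R] (φ a • b) = (1 : S) ⊗ₜ[R] (φ b • a)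
  have h1 := key (1 ⊗ₜ a) (1 ⊗ₜ b)
  rw [hφ', hφ', algebraMap_smul, algebraMap_smul, ← TensorProduct.tmul_smul, ← TensorProduct.tmul_smul] at h1
  exact h1

include h in
theorem eq_zero_of_smul_eq_zero (r : R) (hr : ∀ m : M, r • m = 0) : r = 0 := by
  refine Module.eq_of_localization_maximal (R := R) (M := R) (fun P _ => Localization.AtPrime P)
    (fun P _ => Algebra.linearMap R (Localization.AtPrime P)) _ _ (fun P hP => ?_)
  let S := Localization.AtPrime P
  have hfree : Module.Free S (S ⊗[R] M) := Module.free_of_flat_of_isLocalRing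
  let e : Module.Basis (Fin 1) S (S ⊗[R] M) := Module.finBasisOfFinrankEq S (S ⊗[R] M) (local_finrank h P)
  have h1 : ∀ v : S ⊗[R] M, algebraMap R S r • v = 0 := by
    intro v
    induction v with
    | zero => simp
    | add x y hx hy => rw [smul_add, hx, hy, add_zero]
    | tmul s m =>
      rw [algebraMap_smul, ← TensorProduct.tmul_smul, hr, TensorProduct.tmul_zero]
  have h2 := congrArg (fun v => e.repr v 0) (h1 (e 0))
  simp only [map_smul, Finsupp.smul_apply, Module.Basis.repr_self, Finsupp.single_eq_same, map_zero,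
    Finsupp.zero_apply, smul_eq_mul, mul_one] at h2
  change algebraMap R S r = algebraMap R S 0
  rw [h2, map_zero]

include h in
theorem dual_basis_trace {n : ℕ} (x : Fin n → M) (ξ : Fin n → Module.Dual R M)
    (hx : ∀ m : M, ∑ k, ξ k m • x k = m) : ∑ k, ξ k (x k) = 1 := by
  rw [← sub_eq_zero]
  apply eq_zero_of_smul_eq_zero h
  intro m
  rw [sub_smul, one_smul, Finset.sum_smul]
  conv_lhs => rw [← hx m]
  rw [sub_eq_zero]
  conv_rhs => rw [← hx m]
  refine Finset.sum_congr rfl fun k _ => ?_
  rw [symm_of_rank_one h (ξ k) (x k), hx m]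

include h in
theorem invertible_of_rank_one : Module.Invertible R M := by
  apply Groth.Agent.Sga4B.InvLocal.invertible_of_symm (symm_of_rank_one h)
  obtain ⟨n, x, ξ, hx⟩ := exists_dual_basis R M
  have h1 := dual_basis_trace h x ξ hx
  intro r
  refine ⟨r • ∑ k, ξ k ⊗ₜ x k, ?_⟩
  rw [map_smul, map_sum]
  simp only [contractLeft_apply]
  rw [h1, smul_eq_mul, mul_one]

end rank1

end K956.Inv
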