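import Groth.Agent.OortTate.K956.Pair
import Mathlib.LinearAlgebra.FreeModule.Finite.Matrix
import Mathlib.Algebra.Module.FinitePresentation

/-!
# The pairing of products of elements of `I_1(A)` and `I_1(A^D)`
-/

set_option autoImplicit false
universe u v

open WithConv Coalgebra TensorProduct SGA3b

namespace K956.PairFormula

theorem rankAtStalk_dual (R : Type u) [CommRing R] (M : Type v) [AddCommGroup M] [Module R M]
    [Module.Finite R M] [Module.Projective R M] (q : PrimeSpectrum R) :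
    Module.rankAtStalk (Module.Dual R M) q = Module.rankAtStalk M q := by
  have : Nontrivial R := q.nontrivial
  have hfp : Module.FinitePresentation R M := Module.finitePresentation_of_projective R M
  have hf1 : Module.Free (Localization.AtPrime q.asIdeal) (LocalizedModule q.asIdeal.primeCompl M) :=
    Module.free_of_flat_of_isLocalRing
  have hf2 : Module.Free (Localization.AtPrime q.asIdeal) (LocalizedModule q.asIdeal.primeCompl R) :=
    Module.free_of_flat_of_isLocalRing
  let e := Module.FinitePresentation.linearEquivMapExtendScalars (R := R) (M := M) (N := R) q.asIdeal.primeCompl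
  have h1 : Module.rankAtStalk (R := R) R q = 1 := by
    rw [Module.rankAtStalk_self]
    rfl
  let e' := e.extendScalarsOfIsLocalization q.asIdeal.primeCompl (Localization.AtPrime q.asIdeal)
  have h2 := e'.finrank_eq
  refine Eq.trans h2 ?_
  rw [Module.finrank_linearMap]
  rw [Module.rankAtStalk] at h1
  rw [h1, mul_one]
  rfl

variable {R : Type u} [CommRing R] {A : Type u} [CommRing A] [HopfAlgebra R A]
variable {p : ℕ} [hpF : Fact p.Prime] {u : R} {χ : (ZMod p)ˣ →* Rˣ}

theorem rankAtStalk_D [Module.Finite R A] [Module.Projective R A] (hrk : ∀ q : PrimeSpectrum R, Module.rankAtStalk A q = p)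
    (q : PrimeSpectrum R) : Module.rankAtStalk (CartDual.D R A) q = p := by
  rw [Module.rankAtStalk_eq_of_equiv (CartDual.toDual R A)]
  exact (rankAtStalk_dual R A q).trans (hrk q)

theorem id_conv_pow (hkill : (toConv (AlgHom.id R A)) ^ p = 1) : (toConv LinearMap.id : WithConv (A →ₗ[R] A)) ^ p = 1 := by
  rw [← Pair.powConv_toLinearMap]
  have h : powConv R A p = powConv R A 0 := by
    change WithConv.ofConv ((WithConv.toConv (AlgHom.id R A)) ^ p) = WithConv.ofConv ((WithConv.toConv (AlgHom.id R A)) ^ 0)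
    rw [hkill, pow_zero]
  rw [h, Pair.powConv_toLinearMap, pow_zero]

/-- the monoid homomorphism `ℤ/p → End^{conv}(A)` -/
noncomputable def psi (hkill : (toConv (AlgHom.id R A)) ^ p = 1) :
    Multiplicative (ZMod p) →* WithConv (A →ₗ[R] A) where
  toFun m := (toConv LinearMap.id) ^ (m.toAdd.val)
  map_one' := by
    rw [toAdd_one, ZMod.val_zero, pow_zero]
  map_mul' a b := by
    have h : ∀ n : ℕ, (toConv LinearMap.id : WithConv (A →ₗ[R] A)) ^ (n % p) = (toConv LinearMap.id) ^ n := by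
      intro n
      conv_rhs => rw [← Nat.div_add_mod n p, pow_add, pow_mul, id_conv_pow hkill, one_pow, one_mul]
    rw [toAdd_mul, ZMod.val_add, h, pow_add]

noncomputable def Psi (hkill : (toConv (AlgHom.id R A)) ^ p = 1) :
    MonoidAlgebra R (Multiplicative (ZMod p)) →ₐ[R] WithConv (A →ₗ[R] A) :=
  MonoidAlgebra.lift R (WithConv (A →ₗ[R] A)) (Multiplicative (ZMod p)) (psi hkill)

theorem Psi_muT (hkill : (toConv (AlgHom.id R A)) ^ p = 1) :
    Psi hkill (OortTate.muT R p) = toConv LinearMap.id := by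
  rw [Psi, OortTate.muT, MonoidAlgebra.lift_of]
  change (toConv LinearMap.id : WithConv (A →ₗ[R] A)) ^ ((1 : ZMod p).val) = _
  have : Fact (1 < p) := ⟨hpF.out.one_lt⟩
  rw [ZMod.val_one, pow_one]

theorem Psi_ygen (hkill : (toConv (AlgHom.id R A)) ^ p = 1) (i : ℕ) :
    Psi hkill (OortTate.ygen R p u χ i) = toConv (BC.piA R A p u χ i) := by
  have h1 : ∀ n : ℕ, Psi hkill (powConv R (Gen.Bmu R p) n (OortTate.muT R p)) = toConv (powConv R A n).toLinearMap := by
    intro n
    have e1 : powConv R (Gen.Bmu R p) n (OortTate.muT R p) = (OortTate.muT R p) ^ n := by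
      rw [Gen.powConv_muT, OortTate.muT, ← map_pow, ← ofAdd_nsmul, nsmul_eq_mul, mul_one]
    rw [e1, Pair.am_pow, Psi_muT, Pair.powConv_toLinearMap]
  apply WithConv.ofConv_injective
  apply LinearMap.ext
  intro a
  rw [OortTate.ygen, Eig.proj_apply, Pair.am_smul, Pair.am_sum]
  rw [WithConv.ofConv_smul, WithConv.ofConv_sum, LinearMap.smul_apply, LinearMap.sum_apply]
  change _ = BC.piA R A p u χ i a
  rw [BC.piA_apply, Eig.proj_apply]
  congr 1
  refine Finset.sum_congr rfl fun m _ => ?_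
  rw [Pair.am_smul, WithConv.ofConv_smul, LinearMap.smul_apply]
  congr 1
  have e2 : Psi hkill (powConv R (Gen.Bmu R p) (m : ZMod p).val (OortTate.muT R p - 1)) =
      toConv (powConv R A (m : ZMod p).val).toLinearMap - 1 := by
    rw [map_sub, map_one, map_sub, h1, map_one]
  rw [e2, map_sub, AlgHom.commutes]
  rfl

/-- the universal constants `w_i` -/
theorem exists_w (hu : u * ((p - 1 : ℕ) : R) = 1) (i : ℕ) (hi : 1 ≤ i) :
    ∃ w : R, OortTate.ygen R p u χ 1 ^ i = w • OortTate.ygen R p u χ i := by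
  have h1 : OortTate.ygen R p u χ 1 ^ i ∈ OortTate.eigenAug R (Gen.Bmu R p) p χ i := by
    have := Eig.pow_mem (Gen.ygen_mem (R := R) (p := p) (u := u) (χ := χ) 1) i hi
    rwa [one_mul] at this
  rw [← Gen.span_ygen hu, Submodule.mem_span_singleton] at h1
  obtain ⟨w, hw⟩ := h1
  exact ⟨w, hw.symm⟩

theorem piA_pow (hkill : (toConv (AlgHom.id R A)) ^ p = 1) (i : ℕ) (w : R)
    (hw : OortTate.ygen R p u χ 1 ^ i = w • OortTate.ygen R p u χ i) :
    (toConv (BC.piA R A p u χ 1)) ^ i = w • toConv (BC.piA R A p u χ i) := by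
  rw [← Psi_ygen hkill, ← Psi_ygen hkill, ← map_pow, hw, map_smul]

theorem prod_mem (n : ℕ) (hn : 1 ≤ n) (a : Fin n → A) (ha : ∀ k, a k ∈ OortTate.eigenAug R A p χ 1) :
    ∏ k, a k ∈ OortTate.eigenAug R A p χ n := by
  induction n, hn using Nat.le_induction with
  | base => simpa using ha 0
  | succ n hn ih =>
    rw [Fin.prod_univ_castSucc]
    exact Eig.mul_mem (ih _ (fun k => ha _)) (ha _)

theorem Phi₀_prod [Coalgebra.IsCocomm R A] (n : ℕ) (a : Fin n → A) (f : Fin n → CartDual.D R A) :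
    Pair.Phi₀ ((∏ k, a k) ⊗ₜ[R] (∏ k, f k)) = ∏ k, Pair.Phi₀ (a k ⊗ₜ[R] f k) := by
  induction n with
  | zero =>
    rw [Fin.prod_univ_zero, Fin.prod_univ_zero, Fin.prod_univ_zero, ← Pair.Phi₀_one]
    rfl
  | succ n ih =>
    rw [Fin.prod_univ_castSucc, Fin.prod_univ_castSucc, Fin.prod_univ_castSucc, ← ih, ← Pair.Phi₀_mul,
      Algebra.TensorProduct.tmul_mul_tmul]

/-- the pairing formula -/
theorem pairing [Coalgebra.IsCocomm R A] [Module.Finite R A] [Module.Projective R A]
    (hu : u * ((p - 1 : ℕ) : R) = 1)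
    (hχ : ∀ m : (ZMod p)ˣ, m ≠ 1 → IsUnit ((χ m : R) - 1))
    (hχp : ∀ m : (ZMod p)ˣ, ((χ m : Rˣ) : R) - (((m : ZMod p).val : ℕ) : R) ∈ Ideal.span ({(p : R)} : Set R))
    (hrk : ∀ q : PrimeSpectrum R, Module.rankAtStalk A q = p) (i : ℕ) (hi : 1 ≤ i) (w : R)
    (hw : OortTate.ygen R p u χ 1 ^ i = w • OortTate.ygen R p u χ i)
    (a : Fin i → A) (ha : ∀ k, a k ∈ OortTate.eigenAug R A p χ 1)
    (f : Fin i → CartDual.D R A) (hf : ∀ k, f k ∈ OortTate.eigenAug R (CartDual.D R A) p χ 1) :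
    (∏ k, f k) (∏ k, a k) = w * ∏ k, f k (a k) := by
  have hkill : (toConv (AlgHom.id R A)) ^ p = 1 := FieldEig.conv_pow_eq_one p hrk
  have : Module.Finite R (OortTate.eigenAug R A p χ i) := BC.finite_eigenAug hu hkill i
  have : Module.Projective R (OortTate.eigenAug R A p χ i) := BC.projective_eigenAug hu hkill i
  have h1 := Phi₀_prod i a f
  rw [Pair.tmul_eq_smul (u := u) hu hχ hχp hrk i (prod_mem i hi a ha) (prod_mem i hi f hf)] at h1
  have h2 : ∀ k, Pair.Phi₀ (a k ⊗ₜ[R] f k) = f k (a k) • toConv (BC.piA R A p u χ 1) := fun k =>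
    Pair.tmul_eq_smul hu hχ hχp hrk 1 (ha k) (hf k)
  simp only [h2] at h1
  rw [Finset.prod_smul, Finset.prod_const, Finset.card_univ, Fintype.card_fin, piA_pow hkill i w hw, smul_smul,
    mul_comm (∏ k, f k (a k)) w] at h1
  rw [← sub_eq_zero]
  apply Inv.eq_zero_of_smul_eq_zero (Rank.rankAtStalk_eigenAug (A := A) hu hχ hχp hrk i)
  intro m
  apply Subtype.ext
  have h3 := LinearMap.congr_fun (congrArg WithConv.ofConv h1) (m : A)
  change ((∏ k, f k) (∏ k, a k)) • BC.piA R A p u χ i (m : A) = (w * ∏ k, f k (a k)) • BC.piA R A p u χ i (m : A) at h3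
  rw [BC.piA_of_mem hu m.2] at h3
  change ((∏ k, f k) (∏ k, a k) - w * ∏ k, f k (a k)) • (m : A) = 0
  rw [sub_smul, h3, sub_self]

theorem pairing_eq_zero [Coalgebra.IsCocomm R A] [Module.Finite R A] [Module.Projective R A]
    (hχ : ∀ m : (ZMod p)ˣ, m ≠ 1 → IsUnit ((χ m : R) - 1)) {i j : ℕ}
    (hij : ¬ i ≡ j [MOD (p - 1)]) {a : A} (ha : a ∈ OortTate.eigenAug R A p χ i) {f : CartDual.D R A}
    (hf : f ∈ OortTate.eigenAug R (CartDual.D R A) p χ j) : f a = 0 := by
  obtain ⟨g, hg⟩ := Eig.exists_isUnit hχ hij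
  have h1 := (DualEig.mem_eigenAug_dual.mp hf).2 g a
  rw [(Eig.mem_eigenAug.mp ha).2 g, map_smul, smul_eq_mul, ← sub_eq_zero, ← sub_mul] at h1
  exact (IsUnit.mul_right_eq_zero hg).mp h1

end K956.PairFormula
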