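import Groth.Agent.OortTate.K956.TensMain
import Groth.Agent.OortTate.K956.PairFormula
import Groth.Prelude.Def_CartDual2
import Mathlib.RingTheory.Bialgebra.Equiv

/-!
# The classification map of group schemes of order `p` is injective on isomorphism classes
-/

set_option autoImplicit false
universe u v

open WithConv Coalgebra TensorProduct SGA3b

namespace K956.Iso

/-- lifting along a surjection (noncommutative source) -/
theorem exists_lift {R T A B : Type*} [CommRing R] [Ring T] [Algebra R T] [CommRing A] [Algebra R A] [CommRing B]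
    [Algebra R B] (f : T →ₐ[R] A) (hf : Function.Surjective f) (g : T →ₐ[R] B)
    (h : ∀ t, f t = 0 → g t = 0) : ∃ k : A →ₐ[R] B, ∀ t, k (f t) = g t := by
  have key : ∀ t, g (Function.surjInv hf (f t)) = g t := by
    intro t
    rw [← sub_eq_zero, ← map_sub]
    apply h
    rw [map_sub, Function.surjInv_eq hf, sub_self]
  refine ⟨{ toFun := fun a => g (Function.surjInv hf a)
            map_one' := ?_
            map_mul' := ?_
            map_zero' := ?_
            map_add' := ?_
            commutes' := ?_ }, key⟩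
  · rw [← map_one f, key, map_one]
  · intro a b
    obtain ⟨s, rfl⟩ := hf a
    obtain ⟨t, rfl⟩ := hf b
    rw [← map_mul, key, key, key, map_mul]
  · change g (Function.surjInv hf 0) = 0
    rw [← map_zero f, key, map_zero]
  · intro a b
    obtain ⟨s, rfl⟩ := hf a
    obtain ⟨t, rfl⟩ := hf b
    change g (Function.surjInv hf (f s + f t)) = g (Function.surjInv hf (f s)) + g (Function.surjInv hf (f t))
    rw [← map_add, key, key, key, map_add]
  · intro r
    rw [← f.commutes, key, AlgHom.commutes]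

variable {R : Type u} [CommRing R] {p : ℕ} [hpF : Fact p.Prime] {u : R} {χ : (ZMod p)ˣ →* Rˣ}

section ext

variable {A : Type u} [CommRing A] [HopfAlgebra R A] [Module.Finite R A] [Module.Projective R A]

theorem adjoin_I1 (hu : u * ((p - 1 : ℕ) : R) = 1)
    (hχ : ∀ m : (ZMod p)ˣ, m ≠ 1 → IsUnit ((χ m : R) - 1))
    (hχp : ∀ m : (ZMod p)ˣ, ((χ m : Rˣ) : R) - (((m : ZMod p).val : ℕ) : R) ∈ Ideal.span ({(p : R)} : Set R))
    (hrk : ∀ q : PrimeSpectrum R, Module.rankAtStalk A q = p) :
    Algebra.adjoin R (OortTate.eigenAug R A p χ 1 : Set A) = ⊤ := by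
  have hkill := FieldEig.conv_pow_eq_one p hrk
  rw [← Algebra.toSubmodule_eq_top]
  apply Gen.eq_top_of_le hu hχ hkill
  · exact one_mem (Algebra.adjoin R (OortTate.eigenAug R A p χ 1 : Set A))
  · intro t ht htp
    rw [← Rank.pow_eq hu hχ hχp hrk t ht htp, Submodule.pow_eq_span_pow_set, Submodule.span_le]
    intro z hz
    rw [Set.mem_pow] at hz
    obtain ⟨f, rfl⟩ := hz
    rw [List.prod_ofFn]
    exact Subalgebra.prod_mem (Algebra.adjoin R (OortTate.eigenAug R A p χ 1 : Set A))
      (fun i _ => Algebra.subset_adjoin (f i).2)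

theorem algHom_ext (hu : u * ((p - 1 : ℕ) : R) = 1)
    (hχ : ∀ m : (ZMod p)ˣ, m ≠ 1 → IsUnit ((χ m : R) - 1))
    (hχp : ∀ m : (ZMod p)ˣ, ((χ m : Rˣ) : R) - (((m : ZMod p).val : ℕ) : R) ∈ Ideal.span ({(p : R)} : Set R))
    (hrk : ∀ q : PrimeSpectrum R, Module.rankAtStalk A q = p) {B : Type*} [Semiring B] [Algebra R B]
    (f g : A →ₐ[R] B) (hfg : ∀ x ∈ OortTate.eigenAug R A p χ 1, f x = g x) : f = g := by
  apply AlgHom.ext_of_adjoin_eq_top (adjoin_I1 hu hχ hχp hrk)
  exact hfg

omit [Module.Finite R A] [Module.Projective R A] in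
theorem prod_p_mem (a : Fin p → A) (ha : ∀ k, a k ∈ OortTate.eigenAug R A p χ 1) :
    ∏ k, a k ∈ OortTate.eigenAug R A p χ 1 := by
  have h2 : p ≡ 1 [MOD (p - 1)] := by
    have h3 : p = 1 + (p - 1) := by have := hpF.out.one_le; omega
    conv_lhs => rw [h3]
    simp [Nat.ModEq]
  have h3 := PairFormula.prod_mem p hpF.out.one_le a ha
  rwa [Eig.eigenAug_congr h2] at h3

/-- the linear span of `1` and of the products -/
theorem induction_prod (hu : u * ((p - 1 : ℕ) : R) = 1)
    (hχ : ∀ m : (ZMod p)ˣ, m ≠ 1 → IsUnit ((χ m : R) - 1))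
    (hχp : ∀ m : (ZMod p)ˣ, ((χ m : Rˣ) : R) - (((m : ZMod p).val : ℕ) : R) ∈ Ideal.span ({(p : R)} : Set R))
    (hrk : ∀ q : PrimeSpectrum R, Module.rankAtStalk A q = p) (N : Submodule R A) (h1 : (1 : A) ∈ N)
    (h : ∀ i, 1 ≤ i → i ≤ p - 1 → ∀ (a : Fin i → A), (∀ k, a k ∈ OortTate.eigenAug R A p χ 1) → ∏ k, a k ∈ N) (x : A) :
    x ∈ N := by
  have hkill := FieldEig.conv_pow_eq_one p hrk
  have : N = ⊤ := by
    apply Gen.eq_top_of_le hu hχ hkill N h1
    intro t ht htp
    rw [← Rank.pow_eq hu hχ hχp hrk t ht htp, Submodule.pow_eq_span_pow_set, Submodule.span_le]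
    intro z hz
    rw [Set.mem_pow] at hz
    obtain ⟨f, rfl⟩ := hz
    rw [List.prod_ofFn]
    exact h t ht htp _ (fun k => (f k).2)
  rw [this]
  trivial

variable {A' : Type u} [CommRing A'] [HopfAlgebra R A']

/-- algebra map extending `θ` -/
theorem exists_algHom (hu : u * ((p - 1 : ℕ) : R) = 1)
    (hχ : ∀ m : (ZMod p)ˣ, m ≠ 1 → IsUnit ((χ m : R) - 1))
    (hχp : ∀ m : (ZMod p)ˣ, ((χ m : Rˣ) : R) - (((m : ZMod p).val : ℕ) : R) ∈ Ideal.span ({(p : R)} : Set R))
    (hrk : ∀ q : PrimeSpectrum R, Module.rankAtStalk A q = p)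
    (θ : OortTate.eigenAug R A p χ 1 →ₗ[R] OortTate.eigenAug R A' p χ 1)
    (hθ : ∀ (f : Fin p → OortTate.eigenAug R A p χ 1) (g : OortTate.eigenAug R A p χ 1),
      (g : A) = ∏ i, (f i : A) → ((θ g : OortTate.eigenAug R A' p χ 1) : A') = ∏ i, ((θ (f i)) : A')) :
    ∃ f : A →ₐ[R] A', ∀ m : OortTate.eigenAug R A p χ 1, f m = θ m := by
  let F : TensorAlgebra R (OortTate.eigenAug R A p χ 1) →ₐ[R] A' :=
    TensorAlgebra.lift R ((OortTate.eigenAug R A' p χ 1).subtype.comp θ)
  have hF : ∀ m, F (TensorAlgebra.ι R m) = θ m := fun m => by simp [F]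
  have hker : RingHom.ker (Tens.L (OortTate.eigenAug R A p χ 1)) ≤ RingHom.ker F := by
    rw [TensMain.main hu hχ hχp hrk, Tens.J, Ideal.span_le]
    rintro _ ⟨f, g, hg, rfl⟩
    rw [SetLike.mem_coe, RingHom.mem_ker, map_sub, hF, hθ f g hg, map_list_prod, List.map_ofFn, List.prod_ofFn,
      sub_eq_zero]
    exact Finset.prod_congr rfl fun i _ => hF (f i)
  obtain ⟨k, hk⟩ := exists_lift (Tens.L (OortTate.eigenAug R A p χ 1)) (TensMain.surj hu hχ hχp hrk) F
    (fun t ht => hker ht)
  refine ⟨k, fun m => ?_⟩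
  rw [← hF m, ← hk, Tens.L_ι]

end ext

section main

variable {A : Type u} [CommRing A] [HopfAlgebra R A] [Coalgebra.IsCocomm R A] [Module.Finite R A] [Module.Projective R A]

/-- restriction of linear forms -/
noncomputable def resL (R : Type u) [CommRing R] (A : Type u) [CommRing A] [HopfAlgebra R A] [Coalgebra.IsCocomm R A]
    [Module.Finite R A] [Module.Projective R A] (p : ℕ) [Fact p.Prime] (χ : (ZMod p)ˣ →* Rˣ) :
    OortTate.eigenAug R (CartDual.D R A) p χ 1 →ₗ[R] Module.Dual R (OortTate.eigenAug R A p χ 1) :=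
  ((OortTate.eigenAug R A p χ 1).subtype.dualMap).comp
    ((CartDual.toDual R A).toLinearMap.comp (OortTate.eigenAug R (CartDual.D R A) p χ 1).subtype)

theorem resL_apply (f : OortTate.eigenAug R (CartDual.D R A) p χ 1) (x : OortTate.eigenAug R A p χ 1) :
    resL R A p χ f x = (f : CartDual.D R A) (x : A) := rfl

theorem resL_bij (hu : u * ((p - 1 : ℕ) : R) = 1)
    (hkill : (toConv (AlgHom.id R A)) ^ p = 1) : Function.Bijective (resL R A p χ) :=
  DualEig.bij (A := A) (χ := χ) hu hkill 1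

variable {A' : Type u} [CommRing A'] [HopfAlgebra R A'] [Coalgebra.IsCocomm R A'] [Module.Finite R A']
  [Module.Projective R A']

theorem exists_transpose (hu : u * ((p - 1 : ℕ) : R) = 1)
    (hχ : ∀ m : (ZMod p)ˣ, m ≠ 1 → IsUnit ((χ m : R) - 1))
    (hχp : ∀ m : (ZMod p)ˣ, ((χ m : Rˣ) : R) - (((m : ZMod p).val : ℕ) : R) ∈ Ideal.span ({(p : R)} : Set R))
    (hrk : ∀ q : PrimeSpectrum R, Module.rankAtStalk A q = p)
    (hrk' : ∀ q : PrimeSpectrum R, Module.rankAtStalk A' q = p)
    (θ : OortTate.eigenAug R A p χ 1 ≃ₗ[R] OortTate.eigenAug R A' p χ 1)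
    (hθD : ∀ (φ : Fin p → OortTate.eigenAug R (CartDual.D R A) p χ 1)
      (φ' : Fin p → OortTate.eigenAug R (CartDual.D R A') p χ 1)
      (ψ : OortTate.eigenAug R (CartDual.D R A) p χ 1) (ψ' : OortTate.eigenAug R (CartDual.D R A') p χ 1),
      (∀ i, ∀ x : OortTate.eigenAug R A p χ 1,
        CartDual.toDual R A (φ i : CartDual.D R A) (x : A) =
          CartDual.toDual R A' (φ' i : CartDual.D R A') ((θ x : OortTate.eigenAug R A' p χ 1) : A')) →
      (ψ : CartDual.D R A) = ∏ i, (φ i : CartDual.D R A) →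
      (ψ' : CartDual.D R A') = ∏ i, (φ' i : CartDual.D R A') →
      ∀ x : OortTate.eigenAug R A p χ 1,
        CartDual.toDual R A (ψ : CartDual.D R A) (x : A) =
          CartDual.toDual R A' (ψ' : CartDual.D R A') ((θ x : OortTate.eigenAug R A' p χ 1) : A')) :
    ∃ F : CartDual.D R A' →ₐ[R] CartDual.D R A,
      (∀ φ ∈ OortTate.eigenAug R (CartDual.D R A') p χ 1, F φ ∈ OortTate.eigenAug R (CartDual.D R A) p χ 1) ∧
      ∀ φ ∈ OortTate.eigenAug R (CartDual.D R A') p χ 1, ∀ x : OortTate.eigenAug R A p χ 1,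
        (F φ) (x : A) = φ ((θ x : OortTate.eigenAug R A' p χ 1) : A') := by
  have hkill : (toConv (AlgHom.id R A)) ^ p = 1 := FieldEig.conv_pow_eq_one p hrk
  let e : OortTate.eigenAug R (CartDual.D R A) p χ 1 ≃ₗ[R] Module.Dual R (OortTate.eigenAug R A p χ 1) :=
    LinearEquiv.ofBijective (resL R A p χ) (resL_bij (u := u) hu hkill)
  let θD : OortTate.eigenAug R (CartDual.D R A') p χ 1 →ₗ[R] OortTate.eigenAug R (CartDual.D R A) p χ 1 :=
    e.symm.toLinearMap.comp ((θ.toLinearMap.dualMap).comp (resL R A' p χ))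
  have hθD1 : ∀ (φ : OortTate.eigenAug R (CartDual.D R A') p χ 1) (x : OortTate.eigenAug R A p χ 1),
      ((θD φ : OortTate.eigenAug R (CartDual.D R A) p χ 1) : CartDual.D R A) (x : A) =
        (φ : CartDual.D R A') ((θ x : OortTate.eigenAug R A' p χ 1) : A') := by
    intro φ x
    have h1 : e (θD φ) = (θ.toLinearMap.dualMap) (resL R A' p χ φ) := e.apply_symm_apply _
    exact LinearMap.congr_fun h1 x
  have hrkD' := PairFormula.rankAtStalk_D (A := A') hrk'
  obtain ⟨F, hF⟩ := exists_algHom (A := CartDual.D R A') (A' := CartDual.D R A) hu hχ hχp hrkD' θD (by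
    intro f g hg
    have hmem : ∏ i, (θD (f i) : CartDual.D R A) ∈ OortTate.eigenAug R (CartDual.D R A) p χ 1 :=
      prod_p_mem _ (fun k => (θD (f k)).2)
    have h1 := hθD (fun i => θD (f i)) f ⟨_, hmem⟩ g (fun i x => hθD1 (f i) x) rfl hg
    have h2 : θD g = ⟨_, hmem⟩ := by
      apply (resL_bij (u := u) hu hkill).1
      apply LinearMap.ext
      intro x
      exact (hθD1 g x).trans (h1 x).symm
    rw [h2])
  refine ⟨F, ?_, ?_⟩
  · intro φ hφ
    have := hF ⟨φ, hφ⟩
    change F φ = _ at this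
    rw [this]
    exact (θD ⟨φ, hφ⟩).2
  · intro φ hφ x
    have := hF ⟨φ, hφ⟩
    change F φ = _ at this
    rw [this]
    exact hθD1 ⟨φ, hφ⟩ x

theorem transpose_eq (hu : u * ((p - 1 : ℕ) : R) = 1)
    (hχ : ∀ m : (ZMod p)ˣ, m ≠ 1 → IsUnit ((χ m : R) - 1))
    (hχp : ∀ m : (ZMod p)ˣ, ((χ m : Rˣ) : R) - (((m : ZMod p).val : ℕ) : R) ∈ Ideal.span ({(p : R)} : Set R))
    (hrk : ∀ q : PrimeSpectrum R, Module.rankAtStalk A q = p)
    (hrk' : ∀ q : PrimeSpectrum R, Module.rankAtStalk A' q = p)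
    (f : A →ₐ[R] A') (hf : ∀ x ∈ OortTate.eigenAug R A p χ 1, f x ∈ OortTate.eigenAug R A' p χ 1)
    (F : CartDual.D R A' →ₐ[R] CartDual.D R A)
    (hF : ∀ φ ∈ OortTate.eigenAug R (CartDual.D R A') p χ 1, F φ ∈ OortTate.eigenAug R (CartDual.D R A) p χ 1)
    (hfF : ∀ φ ∈ OortTate.eigenAug R (CartDual.D R A') p χ 1, ∀ x ∈ OortTate.eigenAug R A p χ 1,
        (F φ) x = φ (f x)) (φ : CartDual.D R A') (a : A) : (F φ) a = φ (f a) := by
  have hrkD := PairFormula.rankAtStalk_D (A := A) hrk
  have hrkD' := PairFormula.rankAtStalk_D (A := A') hrk'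
  have hε : ∀ a : A, counit (R := R) (f a) = counit (R := R) a := by
    have : (Bialgebra.counitAlgHom R A').comp f = Bialgebra.counitAlgHom R A := by
      apply algHom_ext hu hχ hχp hrk
      intro x hx
      change counit (R := R) (f x) = counit (R := R) x
      rw [(Eig.mem_eigenAug.mp hx).1, (Eig.mem_eigenAug.mp (hf x hx)).1]
    intro a
    exact AlgHom.congr_fun this a
  have key : φ ∈ LinearMap.eqLocus F.toLinearMap (CartDual.transposeLin R f.toLinearMap) := by
    apply induction_prod hu hχ hχp hrkD'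
    · rw [LinearMap.mem_eqLocus]
      apply WithConv.ofConv_injective
      apply LinearMap.ext
      intro a
      change (F 1) a = (1 : CartDual.D R A') (f a)
      rw [map_one]
      simp only [LinearMap.convOne_apply]
      rw [hε]
    · intro j hj hjp g hg
      rw [LinearMap.mem_eqLocus]
      apply WithConv.ofConv_injective
      have key2 : ∀ a : A, a ∈ LinearMap.eqLocus (F (∏ k, g k)).ofConv ((∏ k, g k : CartDual.D R A').ofConv.comp f.toLinearMap) := by
        apply induction_prod hu hχ hχp hrk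
        · rw [LinearMap.mem_eqLocus]
          change (F (∏ k, g k)) 1 = (∏ k, g k : CartDual.D R A') (f 1)
          rw [map_one f, map_prod F]
          have e1 := (DualEig.mem_eigenAug_dual.mp (PairFormula.prod_mem j hj g hg)).1
          have e2 := (DualEig.mem_eigenAug_dual.mp (PairFormula.prod_mem j hj (fun k => F (g k)) (fun k => hF _ (hg k)))).1
          rw [e1, e2]
        · intro i hi hip b hb
          rw [LinearMap.mem_eqLocus]
          change (F (∏ k, g k)) (∏ k, b k) = (∏ k, g k : CartDual.D R A') (f (∏ k, b k))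
          rw [map_prod F, map_prod f]
          by_cases hij : i = j
          · subst hij
            obtain ⟨w, hw⟩ := PairFormula.exists_w (u := u) (χ := χ) hu i hi
            rw [PairFormula.pairing hu hχ hχp hrk i hi w hw b hb (fun k => F (g k)) (fun k => hF _ (hg k)),
              PairFormula.pairing hu hχ hχp hrk' i hi w hw (fun k => f (b k)) (fun k => hf _ (hb k)) g hg]
            congr 1
            exact Finset.prod_congr rfl fun k _ => hfF _ (hg k) _ (hb k)
          · have hmod : ¬ i ≡ j [MOD (p - 1)] := by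
              intro h
              apply hij
              have h3 : i - 1 ≡ j - 1 [MOD (p - 1)] := by
                apply Nat.ModEq.add_right_cancel' 1
                rwa [Nat.sub_add_cancel (by omega), Nat.sub_add_cancel (by omega)]
              have h4 := Nat.ModEq.eq_of_lt_of_lt h3 (by omega) (by omega)
              omega
            rw [PairFormula.pairing_eq_zero hχ hmod (PairFormula.prod_mem i hi b hb)
                (PairFormula.prod_mem j hj (fun k => F (g k)) (fun k => hF _ (hg k))),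
              PairFormula.pairing_eq_zero hχ hmod (PairFormula.prod_mem i hi (fun k => f (b k)) (fun k => hf _ (hb k)))
                (PairFormula.prod_mem j hj g hg)]
      apply LinearMap.ext
      intro a
      exact LinearMap.mem_eqLocus.mp (key2 a)
  exact LinearMap.congr_fun (congrArg WithConv.ofConv (LinearMap.mem_eqLocus.mp key)) a

omit [Coalgebra.IsCocomm R A] [Coalgebra.IsCocomm R A'] in
/-- an algebra map whose transpose is multiplicative is a coalgebra map -/
theorem comul_of_transpose (f : A →ₐ[R] A')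
    (h : ∀ φ ψ : CartDual.D R A', CartDual.transposeLin R f.toLinearMap (φ * ψ) =
      CartDual.transposeLin R f.toLinearMap φ * CartDual.transposeLin R f.toLinearMap ψ) (a : A) :
    TensorProduct.map f.toLinearMap f.toLinearMap (comul (R := R) a) = comul (R := R) (f a) := by
  rw [← sub_eq_zero, ← Module.forall_dual_apply_eq_zero_iff R]
  intro η
  rw [map_sub, sub_eq_zero]
  obtain ⟨y, rfl⟩ := (CartDual.ev₂ R A').surjective η
  have h1 : ∀ t : A ⊗[R] A, CartDual.ev₂ R A' y (TensorProduct.map f.toLinearMap f.toLinearMap t) =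
      CartDual.ev₂ R A (TensorProduct.map (CartDual.transposeLin R f.toLinearMap)
        (CartDual.transposeLin R f.toLinearMap) y) t := by
    intro t
    induction t with
    | zero => simp
    | add s t hs ht => rw [map_add, map_add, map_add, hs, ht]
    | tmul b c => rw [TensorProduct.map_tmul, CartDual.ev₂_map_transposeLin]
  rw [h1]
  clear h1
  induction y with
  | zero => simp
  | add s t hs ht => rw [map_add, map_add, map_add, LinearMap.add_apply, LinearMap.add_apply, hs, ht]
  | tmul φ ψ =>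
    rw [TensorProduct.map_tmul, ← DualEig.mul_apply, ← DualEig.mul_apply, ← h]
    rfl

theorem main (hu : u * ((p - 1 : ℕ) : R) = 1)
    (hχ : ∀ m : (ZMod p)ˣ, m ≠ 1 → IsUnit ((χ m : R) - 1))
    (hχp : ∀ m : (ZMod p)ˣ, ((χ m : Rˣ) : R) - (((m : ZMod p).val : ℕ) : R) ∈ Ideal.span ({(p : R)} : Set R))
    (hrk : ∀ q : PrimeSpectrum R, Module.rankAtStalk A q = p)
    (hrk' : ∀ q : PrimeSpectrum R, Module.rankAtStalk A' q = p)
    (θ : OortTate.eigenAug R A p χ 1 ≃ₗ[R] OortTate.eigenAug R A' p χ 1)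
    (hθ : ∀ (f : Fin p → OortTate.eigenAug R A p χ 1) (g : OortTate.eigenAug R A p χ 1),
      (g : A) = ∏ i, (f i : A) → ((θ g : OortTate.eigenAug R A' p χ 1) : A') = ∏ i, ((θ (f i)) : A'))
    (hθD : ∀ (φ : Fin p → OortTate.eigenAug R (CartDual.D R A) p χ 1)
      (φ' : Fin p → OortTate.eigenAug R (CartDual.D R A') p χ 1)
      (ψ : OortTate.eigenAug R (CartDual.D R A) p χ 1) (ψ' : OortTate.eigenAug R (CartDual.D R A') p χ 1),
      (∀ i, ∀ x : OortTate.eigenAug R A p χ 1,
        CartDual.toDual R A (φ i : CartDual.D R A) (x : A) =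
          CartDual.toDual R A' (φ' i : CartDual.D R A') ((θ x : OortTate.eigenAug R A' p χ 1) : A')) →
      (ψ : CartDual.D R A) = ∏ i, (φ i : CartDual.D R A) →
      (ψ' : CartDual.D R A') = ∏ i, (φ' i : CartDual.D R A') →
      ∀ x : OortTate.eigenAug R A p χ 1,
        CartDual.toDual R A (ψ : CartDual.D R A) (x : A) =
          CartDual.toDual R A' (ψ' : CartDual.D R A') ((θ x : OortTate.eigenAug R A' p χ 1) : A')) :
    Nonempty (A ≃ₐc[R] A') := by
  obtain ⟨f, hf⟩ := exists_algHom hu hχ hχp hrk θ.toLinearMap hθ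
  have hθ' : ∀ (f : Fin p → OortTate.eigenAug R A' p χ 1) (g : OortTate.eigenAug R A' p χ 1),
      (g : A') = ∏ i, (f i : A') → ((θ.symm g : OortTate.eigenAug R A p χ 1) : A) = ∏ i, ((θ.symm (f i)) : A) := by
    intro f g hg
    have hmem : ∏ i, (θ.symm (f i) : A) ∈ OortTate.eigenAug R A p χ 1 :=
      prod_p_mem _ (fun k => (θ.symm (f k)).2)
    have h1 := hθ (fun i => θ.symm (f i)) ⟨_, hmem⟩ rfl
    simp only [LinearEquiv.apply_symm_apply] at h1
    have h2 : θ ⟨_, hmem⟩ = g := Subtype.ext (h1.trans hg.symm)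
    rw [← h2, LinearEquiv.symm_apply_apply]
  obtain ⟨f', hf'⟩ := exists_algHom hu hχ hχp hrk' θ.symm.toLinearMap hθ'
  have hff' : f'.comp f = AlgHom.id R A := by
    apply algHom_ext hu hχ hχp hrk
    intro x hx
    change f' (f x) = x
    rw [hf ⟨x, hx⟩, hf']
    simp
  have hf'f : f.comp f' = AlgHom.id R A' := by
    apply algHom_ext hu hχ hχp hrk'
    intro x hx
    change f (f' x) = x
    rw [hf' ⟨x, hx⟩, hf]
    simp
  obtain ⟨F, hF1, hF2⟩ := exists_transpose hu hχ hχp hrk hrk' θ hθD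
  have hfmem : ∀ x ∈ OortTate.eigenAug R A p χ 1, f x ∈ OortTate.eigenAug R A' p χ 1 := by
    intro x hx
    rw [hf ⟨x, hx⟩]
    exact (θ.toLinearMap ⟨x, hx⟩).2
  have htr := transpose_eq hu hχ hχp hrk hrk' f hfmem F hF1 (by
    intro φ hφ x hx
    rw [hF2 φ hφ ⟨x, hx⟩, hf ⟨x, hx⟩]
    rfl)
  have htr' : ∀ φ, CartDual.transposeLin R f.toLinearMap φ = F φ := by
    intro φ
    apply WithConv.ofConv_injective
    apply LinearMap.ext
    intro a
    exact (htr φ a).symm
  let E : A ≃ₐ[R] A' := AlgEquiv.ofAlgHom f f' hf'f hff'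
  refine ⟨BialgEquiv.ofAlgEquiv E ?_ ?_⟩
  · apply algHom_ext hu hχ hχp hrk
    intro x hx
    change counit (R := R) (f x) = counit (R := R) x
    rw [(Eig.mem_eigenAug.mp hx).1, (Eig.mem_eigenAug.mp (hfmem x hx)).1]
  · apply AlgHom.ext
    intro a
    exact comul_of_transpose f (fun φ ψ => by rw [htr', htr', htr', map_mul]) a

end main

end K956.Iso
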