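import Groth.Agent.OortTate.K956.Iso

/-!
# The classification map of group schemes of order `p` is injective: the free case
-/

set_option autoImplicit false
universe u v

open WithConv Coalgebra TensorProduct SGA3b

namespace K956.IsoFree

variable {R : Type u} [CommRing R] {p : ℕ} [hpF : Fact p.Prime] {u : R} {χ : (ZMod p)ˣ →* Rˣ}

variable {A : Type u} [CommRing A] [HopfAlgebra R A] [Coalgebra.IsCocomm R A] [Module.Finite R A] [Module.Projective R A]
variable {A' : Type u} [CommRing A'] [HopfAlgebra R A'] [Coalgebra.IsCocomm R A'] [Module.Finite R A']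
  [Module.Projective R A']

theorem main (hu : u * ((p - 1 : ℕ) : R) = 1)
    (hχ : ∀ m : (ZMod p)ˣ, m ≠ 1 → IsUnit ((χ m : R) - 1))
    (hχp : ∀ m : (ZMod p)ˣ, ((χ m : Rˣ) : R) - (((m : ZMod p).val : ℕ) : R) ∈ Ideal.span ({(p : R)} : Set R))
    (hrk : ∀ q : PrimeSpectrum R, Module.rankAtStalk A q = p)
    (hrk' : ∀ q : PrimeSpectrum R, Module.rankAtStalk A' q = p)
    (x : A) (hx : Submodule.span R {x} = OortTate.eigenAug R A p χ 1)
    (ξ : CartDual.D R A) (hξ : Submodule.span R {ξ} = OortTate.eigenAug R (CartDual.D R A) p χ 1)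
    (hxξ : CartDual.toDual R A ξ x = 1)
    (x' : A') (hx' : Submodule.span R {x'} = OortTate.eigenAug R A' p χ 1)
    (ξ' : CartDual.D R A') (hξ' : Submodule.span R {ξ'} = OortTate.eigenAug R (CartDual.D R A') p χ 1)
    (hxξ' : CartDual.toDual R A' ξ' x' = 1)
    (α β α' β' : R) (hα : x ^ p = α • x) (hβ : ξ ^ p = β • ξ) (hα' : x' ^ p = α' • x')
    (hβ' : ξ' ^ p = β' • ξ')
    (v : Rˣ) (hαv : α' = ((v ^ (p - 1) : Rˣ) : R) * α) (hβv : β' = ((v⁻¹ ^ (p - 1) : Rˣ) : R) * β) :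
    Nonempty (A ≃ₐc[R] A') := by
  have hxm : x ∈ OortTate.eigenAug R A p χ 1 := by rw [← hx]; exact Submodule.mem_span_singleton_self x
  have hxm' : x' ∈ OortTate.eigenAug R A' p χ 1 := by rw [← hx']; exact Submodule.mem_span_singleton_self x'
  have h1 : ξ x = 1 := hxξ
  have h1' : ξ' x' = 1 := hxξ'
  -- coordinates
  have hc : ∀ y : A, y ∈ OortTate.eigenAug R A p χ 1 → y = ξ y • x := by
    intro y hy
    rw [← hx, Submodule.mem_span_singleton] at hy
    obtain ⟨r, rfl⟩ := hy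
    rw [map_smul, h1, smul_eq_mul, mul_one]
  have hc' : ∀ y : A', y ∈ OortTate.eigenAug R A' p χ 1 → y = ξ' y • x' := by
    intro y hy
    rw [← hx', Submodule.mem_span_singleton] at hy
    obtain ⟨r, rfl⟩ := hy
    rw [map_smul, h1', smul_eq_mul, mul_one]
  have hd : ∀ φ : CartDual.D R A, φ ∈ OortTate.eigenAug R (CartDual.D R A) p χ 1 → φ = φ x • ξ := by
    intro φ hφ
    rw [← hξ, Submodule.mem_span_singleton] at hφ
    obtain ⟨r, rfl⟩ := hφ
    change r • ξ = (r • ξ x) • ξ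
    rw [h1, smul_eq_mul, mul_one]
  have hd' : ∀ φ : CartDual.D R A', φ ∈ OortTate.eigenAug R (CartDual.D R A') p χ 1 → φ = φ x' • ξ' := by
    intro φ hφ
    rw [← hξ', Submodule.mem_span_singleton] at hφ
    obtain ⟨r, rfl⟩ := hφ
    change r • ξ' = (r • ξ' x') • ξ'
    rw [h1', smul_eq_mul, mul_one]
  let θ₁ : OortTate.eigenAug R A p χ 1 →ₗ[R] OortTate.eigenAug R A' p χ 1 :=
    (LinearMap.toSpanSingleton R (OortTate.eigenAug R A' p χ 1) (((v⁻¹ : Rˣ) : R) • ⟨x', hxm'⟩)).comp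
      (ξ.ofConv.comp (OortTate.eigenAug R A p χ 1).subtype)
  let θ₂ : OortTate.eigenAug R A' p χ 1 →ₗ[R] OortTate.eigenAug R A p χ 1 :=
    (LinearMap.toSpanSingleton R (OortTate.eigenAug R A p χ 1) ((v : R) • ⟨x, hxm⟩)).comp
      (ξ'.ofConv.comp (OortTate.eigenAug R A' p χ 1).subtype)
  have hθ₁ : ∀ y, (θ₁ y : A') = ξ (y : A) • ((v⁻¹ : Rˣ) : R) • x' := fun y => rfl
  have hθ₂ : ∀ y, (θ₂ y : A) = ξ' (y : A') • (v : R) • x := fun y => rfl
  have h12 : θ₁.comp θ₂ = LinearMap.id := by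
    apply LinearMap.ext
    intro y
    apply Subtype.ext
    change (θ₁ (θ₂ y) : A') = y
    rw [hθ₁, hθ₂, map_smul, map_smul, h1, smul_eq_mul, smul_eq_mul, mul_one, smul_smul, mul_assoc, Units.mul_inv,
      mul_one]
    exact (hc' y y.2).symm
  have h21 : θ₂.comp θ₁ = LinearMap.id := by
    apply LinearMap.ext
    intro y
    apply Subtype.ext
    change (θ₂ (θ₁ y) : A) = y
    rw [hθ₂, hθ₁, map_smul, map_smul, h1', smul_eq_mul, smul_eq_mul, mul_one, smul_smul, mul_assoc, Units.inv_mul,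
      mul_one]
    exact (hc y y.2).symm
  let θ : OortTate.eigenAug R A p χ 1 ≃ₗ[R] OortTate.eigenAug R A' p χ 1 := LinearEquiv.ofLinearMap θ₁ θ₂ h12 h21
  have hθ : ∀ y, ((θ y : OortTate.eigenAug R A' p χ 1) : A') = ξ (y : A) • ((v⁻¹ : Rˣ) : R) • x' := fun y => rfl
  have hvp : ((v⁻¹ : Rˣ) : R) ^ p = ((v⁻¹ : Rˣ) : R) * ((v⁻¹ ^ (p - 1) : Rˣ) : R) := by
    rw [← Units.val_pow_eq_pow_val, ← Units.val_mul, ← pow_succ', Nat.sub_add_cancel hpF.out.one_le]
  refine Iso.main hu hχ hχp hrk hrk' θ ?_ ?_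
  · intro f g hg
    have e1 : (g : A) = (∏ i, ξ (f i : A)) • α • x := by
      rw [hg, ← hα, Finset.prod_congr rfl (fun i _ => hc (f i : A) (f i).2), Finset.prod_smul, Finset.prod_const,
        Finset.card_univ, Fintype.card_fin]
    have e2 : ∏ i, ((θ (f i) : OortTate.eigenAug R A' p χ 1) : A') =
        (∏ i, ξ (f i : A)) • ((v⁻¹ : Rˣ) : R) ^ p • α' • x' := by
      simp only [hθ]
      rw [Finset.prod_smul, Finset.prod_const, Finset.card_univ, Fintype.card_fin, smul_pow, hα']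
    rw [e2, hθ, e1, map_smul, map_smul, h1, hαv, hvp]
    simp only [smul_smul, smul_eq_mul]
    congr 1
    have : ((v⁻¹ ^ (p - 1) : Rˣ) : R) * ((v ^ (p - 1) : Rˣ) : R) = 1 := by
      rw [← Units.val_mul, inv_pow, inv_mul_cancel, Units.val_one]
    linear_combination (-(∏ i, ξ (f i : A)) * ((v⁻¹ : Rˣ) : R) * α) * this
  · intro φ φ' ψ ψ' h hψ hψ' y
    have e1 : (ψ : CartDual.D R A) = (∏ i, (φ i : CartDual.D R A) x) • β • ξ := by
      rw [hψ, ← hβ, Finset.prod_congr rfl (fun i _ => hd (φ i : CartDual.D R A) (φ i).2), Finset.prod_smul,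
        Finset.prod_const, Finset.card_univ, Fintype.card_fin]
    have e2 : (ψ' : CartDual.D R A') = (∏ i, (φ' i : CartDual.D R A') x') • β' • ξ' := by
      rw [hψ', ← hβ', Finset.prod_congr rfl (fun i _ => hd' (φ' i : CartDual.D R A') (φ' i).2), Finset.prod_smul,
        Finset.prod_const, Finset.card_univ, Fintype.card_fin]
    have e3 : ∀ i, (φ i : CartDual.D R A) x = ((v⁻¹ : Rˣ) : R) * (φ' i : CartDual.D R A') x' := by
      intro i
      have h3 := h i ⟨x, hxm⟩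
      rw [hθ] at h3
      change (φ i : CartDual.D R A) x = (φ' i : CartDual.D R A') (ξ x • ((v⁻¹ : Rˣ) : R) • x') at h3
      rw [h1, one_smul, map_smul, smul_eq_mul] at h3
      exact h3
    rw [e1, e2, hθ]
    simp only [e3]
    rw [Finset.prod_mul_distrib, Finset.prod_const, Finset.card_univ, Fintype.card_fin]
    change (((v⁻¹ : Rˣ) : R) ^ p * ∏ i, (φ' i : CartDual.D R A') x') • β • ξ (y : A) =
      (∏ i, (φ' i : CartDual.D R A') x') • β' • ξ' (ξ (y : A) • ((v⁻¹ : Rˣ) : R) • x')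
    rw [map_smul, map_smul, h1', hβv, hvp]
    simp only [smul_eq_mul]
    ring

end K956.IsoFree
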