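import Mathlib.RingTheory.HopfAlgebra.Basic
import Mathlib.RingTheory.Bialgebra.Equiv
import Mathlib.RingTheory.Bialgebra.TensorProduct
import Mathlib.Tactic.LinearCombination
import Mathlib.Tactic.Module

set_option autoImplicit false
universe u v w
open scoped TensorProduct

namespace K956.OrderTwo

variable {R : Type u} [CommRing R] {A : Type v} [CommRing A] [Bialgebra R A]

/-- the coordinate along the generator `x` of the augmentation ideal -/
theorem exists_coord (x : A)
    (hgen : ∀ f : A, Bialgebra.counitAlgHom R A f = 0 → ∃ r : R, f = r • x)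
    (hx : Bialgebra.counitAlgHom R A x = 0)
    (hfree : ∀ r : R, r • x = 0 → r = 0) :
    ∃ φ : A →ₗ[R] R, (∀ f : A, f = algebraMap R A (Coalgebra.counit (R := R) f) + φ f • x) ∧ φ x = 1 ∧ φ 1 = 0 := by
  have huniq : ∀ r s : R, r • x = s • x → r = s := fun r s h => by
    have := hfree (r - s) (by rw [sub_smul, h, sub_self])
    exact sub_eq_zero.mp this
  have hx' : Coalgebra.counit (R := R) x = 0 := hx
  have key : ∀ f : A, ∃ r : R, f = algebraMap R A (Coalgebra.counit (R := R) f) + r • x := by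
    intro f
    obtain ⟨r, hr⟩ := hgen (f - algebraMap R A (Coalgebra.counit (R := R) f)) (by
      rw [map_sub, AlgHom.commutes]
      simp)
    exact ⟨r, by rw [← hr]; ring⟩
  choose c hc using key
  refine ⟨{ toFun := c, map_add' := ?_, map_smul' := ?_ }, hc, ?_, ?_⟩
  · intro f g
    apply huniq
    have h1 := hc (f + g)
    rw [map_add, map_add] at h1
    have h2 := hc f
    have h3 := hc g
    rw [add_smul]
    linear_combination (-1 : A) * h1 + h2 + h3
  · intro r f
    apply huniq
    have h1 := hc (r • f)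
    have h2 := hc f
    rw [map_smul, smul_eq_mul, map_mul, Algebra.smul_def] at h1
    rw [← Algebra.smul_def] at h1
    have h4 : (RingHom.id R r • c f) • x = algebraMap R A r * (c f • x) := by
      rw [RingHom.id_apply, smul_eq_mul, mul_smul, Algebra.smul_def r]
    rw [h4]
    rw [Algebra.smul_def r f] at h1
    rw [Algebra.smul_def r f]
    linear_combination (-1 : A) * h1 + algebraMap R A r * h2
  · apply huniq
    have h1 := hc x
    rw [hx', map_zero, zero_add] at h1
    simpa using h1.symm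
  · apply huniq
    have h1 := hc 1
    simp at h1
    simpa using h1

variable (x : A) (φ : A →ₗ[R] R)

theorem tmul_decomp (h : ∀ f : A, f = algebraMap R A (Coalgebra.counit (R := R) f) + φ f • x)
    (t : A ⊗[R] A) :
    t = (LinearMap.mul' R R (TensorProduct.map (Coalgebra.counit (R := R)) (Coalgebra.counit (R := R)) t)) • (1 ⊗ₜ[R] 1)
      + (LinearMap.mul' R R (TensorProduct.map (Coalgebra.counit (R := R)) φ t)) • (1 ⊗ₜ[R] x)
      + (LinearMap.mul' R R (TensorProduct.map φ (Coalgebra.counit (R := R)) t)) • (x ⊗ₜ[R] 1)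
      + (LinearMap.mul' R R (TensorProduct.map φ φ t)) • (x ⊗ₜ[R] x) := by
  induction t with
  | zero => simp
  | add s t hs ht =>
    nth_rewrite 1 [hs, ht]
    simp only [map_add, add_smul]
    abel
  | tmul f g =>
    nth_rewrite 1 [h f, h g]
    simp only [TensorProduct.map_tmul, LinearMap.mul'_apply, Algebra.algebraMap_eq_smul_one,
      TensorProduct.add_tmul, TensorProduct.tmul_add, ← TensorProduct.smul_tmul', TensorProduct.tmul_smul]
    module

theorem comul_x (h : ∀ f : A, f = algebraMap R A (Coalgebra.counit (R := R) f) + φ f • x)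
    (hx : Coalgebra.counit (R := R) x = 0) (hφ : φ x = 1) :
    Coalgebra.comul (R := R) x = x ⊗ₜ[R] 1 + 1 ⊗ₜ[R] x +
      (LinearMap.mul' R R (TensorProduct.map φ φ (Coalgebra.comul (R := R) x))) • (x ⊗ₜ[R] x) := by
  have h1 := tmul_decomp x φ h (Coalgebra.comul (R := R) x)
  have e1 : ∀ ψ : A →ₗ[R] R, LinearMap.mul' R R (TensorProduct.map (Coalgebra.counit (R := R)) ψ (Coalgebra.comul (R := R) x)) = ψ x := by
    intro ψ
    have : TensorProduct.map (Coalgebra.counit (R := R)) ψ (Coalgebra.comul (R := R) x) =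
      LinearMap.lTensor R ψ (LinearMap.rTensor A (Coalgebra.counit (R := R)) (Coalgebra.comul (R := R) x)) := by
      exact (DFunLike.congr_fun (LinearMap.lTensor_comp_rTensor _ _ _) _).symm
    rw [this, Coalgebra.rTensor_counit_comul]
    simp
  have e2 : ∀ ψ : A →ₗ[R] R, LinearMap.mul' R R (TensorProduct.map ψ (Coalgebra.counit (R := R)) (Coalgebra.comul (R := R) x)) = ψ x := by
    intro ψ
    have : TensorProduct.map ψ (Coalgebra.counit (R := R)) (Coalgebra.comul (R := R) x) =
      LinearMap.rTensor R ψ (LinearMap.lTensor A (Coalgebra.counit (R := R)) (Coalgebra.comul (R := R) x)) := by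
      exact (DFunLike.congr_fun (LinearMap.rTensor_comp_lTensor _ _ _) _).symm
    rw [this, Coalgebra.lTensor_counit_comul]
    simp
  rw [e1, e1, e2, hx, hφ] at h1
  rw [zero_smul, zero_add, one_smul, one_smul, add_comm (1 ⊗ₜ[R] x)] at h1
  exact h1

theorem smul_tmul_eq (h : ∀ f : A, f = algebraMap R A (Coalgebra.counit (R := R) f) + φ f • x)
    (hφ : φ x = 1) (r : R) (hr : r • (x ⊗ₜ[R] x) = 0) : r = 0 := by
  have := congrArg (fun t => LinearMap.mul' R R (TensorProduct.map φ φ t)) hr
  simpa [hφ] using this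

section iso

variable {A' : Type w} [CommRing A'] [Bialgebra R A']

/-- the algebra map `f ↦ ε f + s φ(f) x'` -/
theorem exists_bialgHom (x : A) (a b : R)
    (hx : Coalgebra.counit (R := R) x = 0)
    (h : ∀ f : A, f = algebraMap R A (Coalgebra.counit (R := R) f) + φ f • x)
    (hφx : φ x = 1) (hφ1 : φ 1 = 0)
    (hxa : x * x = a • x)
    (hxb : Coalgebra.comul (R := R) x = x ⊗ₜ[R] 1 + 1 ⊗ₜ[R] x + b • (x ⊗ₜ[R] x))
    (x' : A') (a' b' : R) (hx' : Coalgebra.counit (R := R) x' = 0)
    (hxa' : x' * x' = a' • x')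
    (hxb' : Coalgebra.comul (R := R) x' = x' ⊗ₜ[R] 1 + 1 ⊗ₜ[R] x' + b' • (x' ⊗ₜ[R] x'))
    (s : R) (hs : a = a' * s) (hs' : b' = b * s) (hb : b * s * s = b' * s) :
    ∃ e : A →ₐc[R] A', e x = s • x' := by
  have hεalg : ∀ r : R, Coalgebra.counit (R := R) (algebraMap R A r) = r := fun r => by simp
  have hφalg : ∀ r : R, φ (algebraMap R A r) = 0 := fun r => by
    rw [Algebra.algebraMap_eq_smul_one, map_smul, hφ1, smul_zero]
  let L : A →ₗ[R] A' := (Algebra.linearMap R A').comp (Coalgebra.counit (R := R)) +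
    (LinearMap.toSpanSingleton R A' (s • x')).comp φ
  have hL : ∀ f, L f = algebraMap R A' (Coalgebra.counit (R := R) f) + φ f • (s • x') := fun f => rfl
  have hmulφ : ∀ f g : A, φ (f * g) = Coalgebra.counit (R := R) f * φ g + φ f * Coalgebra.counit (R := R) g
      + φ f * φ g * a := by
    intro f g
    have e : f * g = algebraMap R A (Coalgebra.counit (R := R) f * Coalgebra.counit (R := R) g) +
        (Coalgebra.counit (R := R) f * φ g + φ f * Coalgebra.counit (R := R) g + φ f * φ g * a) • x := by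
      nth_rewrite 1 [h f, h g]
      simp only [Algebra.algebraMap_eq_smul_one, mul_add, add_mul, smul_mul_assoc, mul_smul_comm, hxa, one_mul, mul_one,
        smul_smul]
      module
    rw [e, map_add, hφalg, map_smul, hφx]
    simp
  let F : A →ₐ[R] A' := AlgHom.ofLinearMap L (by rw [hL, hφ1]; simp) (by
    intro f g
    rw [hL, hL, hL, hmulφ, Bialgebra.counit_mul]
    simp only [Algebra.algebraMap_eq_smul_one, mul_add, add_mul, smul_mul_assoc, mul_smul_comm, hxa', one_mul, mul_one,
        smul_smul]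
    rw [hs]
    module)
  have hF : ∀ f, F f = algebraMap R A' (Coalgebra.counit (R := R) f) + φ f • (s • x') := fun f => rfl
  have hFx : F x = s • x' := by rw [hF, hx, hφx]; simp
  refine ⟨BialgHom.ofAlgHom F ?_ ?_, hFx⟩
  · ext f
    simp [hF, hx']
  · ext f
    rw [h f]
    simp only [map_add, AlgHom.commutes, map_smul]
    congr 1
    congr 1
    simp only [AlgHom.comp_apply, hFx, Bialgebra.comulAlgHom_apply, map_smul, hxb', hxb, map_add,
      Algebra.TensorProduct.map_tmul, map_one]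
    simp only [← TensorProduct.smul_tmul', TensorProduct.tmul_smul, smul_add, smul_smul]
    rw [← mul_assoc, hb, mul_comm s b']

theorem iso_iff (x : A) (hx : Bialgebra.counitAlgHom R A x = 0)
    (hgen : ∀ f : A, Bialgebra.counitAlgHom R A f = 0 → ∃ r : R, f = r • x)
    (hfree : ∀ r : R, r • x = 0 → r = 0)
    (a b : R) (hxa : x * x = a • x)
    (hxb : Bialgebra.comulAlgHom R A x = x ⊗ₜ[R] 1 + 1 ⊗ₜ[R] x + b • (x ⊗ₜ[R] x))
    (x' : A') (hx' : Bialgebra.counitAlgHom R A' x' = 0)
    (hgen' : ∀ f : A', Bialgebra.counitAlgHom R A' f = 0 → ∃ r : R, f = r • x')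
    (hfree' : ∀ r : R, r • x' = 0 → r = 0)
    (a' b' : R) (hxa' : x' * x' = a' • x')
    (hxb' : Bialgebra.comulAlgHom R A' x' = x' ⊗ₜ[R] 1 + 1 ⊗ₜ[R] x' + b' • (x' ⊗ₜ[R] x')) :
    Nonempty (A ≃ₐc[R] A') ↔ ∃ s : Rˣ, a = a' * (s : R) ∧ b' = b * (s : R) := by
  obtain ⟨φ, h, hφx, hφ1⟩ := exists_coord x hgen hx hfree
  obtain ⟨φ', h', hφx', hφ1'⟩ := exists_coord x' hgen' hx' hfree'
  have hxc : Coalgebra.counit (R := R) x = 0 := hx
  have hxc' : Coalgebra.counit (R := R) x' = 0 := hx'
  have huniq' : ∀ r s : R, r • x' = s • x' → r = s := fun r s h => by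
    have := hfree' (r - s) (by rw [sub_smul, h, sub_self])
    exact sub_eq_zero.mp this
  have huniq : ∀ r s : R, r • x = s • x → r = s := fun r s h => by
    have := hfree (r - s) (by rw [sub_smul, h, sub_self])
    exact sub_eq_zero.mp this
  constructor
  · rintro ⟨e⟩
    obtain ⟨s, hs⟩ := hgen' (e x) (by
      have : Bialgebra.counitAlgHom R A' (e x) = Coalgebra.counit (R := R) x :=
        CoalgHomClass.counit_comp_apply e x
      rw [this, hxc])
    obtain ⟨t, ht⟩ := hgen (e.symm x') (by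
      have : Bialgebra.counitAlgHom R A (e.symm x') = Coalgebra.counit (R := R) x' :=
        CoalgHomClass.counit_comp_apply e.symm x'
      rw [this, hxc'])
    have hts : t * s = 1 := by
      apply huniq'
      have : e (e.symm x') = x' := e.apply_symm_apply x'
      rw [ht, map_smul, hs, smul_smul] at this
      rw [this, one_smul]
    have hst : s * t = 1 := by rw [mul_comm]; exact hts
    refine ⟨⟨s, t, hst, hts⟩, ?_, ?_⟩
    · have e1 : e (x * x) = e x * e x := map_mul e x x
      rw [hxa, map_smul, hs, smul_mul_smul_comm, hxa', smul_smul, smul_smul] at e1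
      have e2 := huniq' _ _ e1
      have e3 : a * s * t = s * s * a' * t := by rw [e2]
      calc a = a * s * t := by rw [mul_assoc, hst, mul_one]
        _ = s * s * a' * t := e3
        _ = (s * t) * (a' * s) := by ring
        _ = a' * s := by rw [hst, one_mul]
    · have e1 : TensorProduct.map (e : A →ₗ[R] A') (e : A →ₗ[R] A') (Coalgebra.comul (R := R) x) =
          Coalgebra.comul (R := R) (e x) := CoalgHomClass.map_comp_comul_apply e x
      have hxbc : Coalgebra.comul (R := R) x = x ⊗ₜ[R] 1 + 1 ⊗ₜ[R] x + b • (x ⊗ₜ[R] x) := hxb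
      have hxbc' : Coalgebra.comul (R := R) x' = x' ⊗ₜ[R] 1 + 1 ⊗ₜ[R] x' + b' • (x' ⊗ₜ[R] x') := hxb'
      have he1 : (e : A →ₗ[R] A') 1 = 1 := map_one e
      have hex : (e : A →ₗ[R] A') x = s • x' := hs
      rw [hs, map_smul, hxbc', hxbc] at e1
      simp only [map_add, map_smul, TensorProduct.map_tmul, he1, hex] at e1
      have e2 : (b * s * s) • (x' ⊗ₜ[R] x') = (s * b') • (x' ⊗ₜ[R] x') := by
        simp only [← TensorProduct.smul_tmul', TensorProduct.tmul_smul, smul_add, smul_smul] at e1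
        rw [← mul_assoc] at e1
        exact add_left_cancel e1
      have e3 : b * s * s - s * b' = 0 := smul_tmul_eq x' φ' h' hφx' _ (by rw [sub_smul, e2, sub_self])
      calc b' = (s * t) * b' := by rw [hst, one_mul]
        _ = t * (s * b') := by ring
        _ = t * (b * s * s) := by rw [sub_eq_zero.mp e3]
        _ = (s * t) * (b * s) := by ring
        _ = b * s := by rw [hst, one_mul]
  · rintro ⟨s, hs, hs'⟩
    obtain ⟨e, he⟩ := exists_bialgHom φ x a b hxc h hφx hφ1 hxa hxb x' a' b' hxc' hxa' hxb' (s : R) hs hs'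
      (by rw [hs'])
    obtain ⟨e', he'⟩ := exists_bialgHom φ' x' a' b' hxc' h' hφx' hφ1' hxa' hxb' x a b hxc hxa hxb ((s⁻¹ : Rˣ) : R)
      (by rw [hs, mul_assoc, Units.mul_inv, mul_one]) (by rw [hs', mul_assoc, Units.mul_inv, mul_one])
      (by rw [hs', mul_assoc b, Units.mul_inv, mul_one])
    refine ⟨BialgEquiv.ofBialgHom e e' ?_ ?_⟩
    · ext f
      rw [h' f]
      have : ∀ r : R, (e.comp e') (algebraMap R A' r) = algebraMap R A' r := fun r => by
        rw [Algebra.algebraMap_eq_smul_one, map_smul, map_one]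
      rw [map_add, this, map_smul, BialgHom.comp_apply, he', map_smul, he, smul_smul (↑s⁻¹ : R), Units.inv_mul, one_smul]
      rfl
    · ext f
      rw [h f]
      have : ∀ r : R, (e'.comp e) (algebraMap R A r) = algebraMap R A r := fun r => by
        rw [Algebra.algebraMap_eq_smul_one, map_smul, map_one]
      rw [map_add, this, map_smul, BialgHom.comp_apply, he, map_smul, he', smul_smul (↑s : R), Units.mul_inv, one_smul]
      rfl

end iso

theorem main_one {R : Type u} [CommRing R] {A : Type v} [CommRing A] [HopfAlgebra R A]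
    (x : A) (hx : Bialgebra.counitAlgHom R A x = 0)
    (hgen : ∀ f : A, Bialgebra.counitAlgHom R A f = 0 → ∃ r : R, f = r • x)
    (hfree : ∀ r : R, r • x = 0 → r = 0) :
    ∃ a b : R, x * x = a • x ∧
      Bialgebra.comulAlgHom R A x = x ⊗ₜ[R] 1 + 1 ⊗ₜ[R] x + b • (x ⊗ₜ[R] x) ∧ a * b = -2 := by
  obtain ⟨φ, h, hφx, hφ1⟩ := exists_coord x hgen hx hfree
  have hx' : Coalgebra.counit (R := R) x = 0 := hx
  obtain ⟨a, ha⟩ := hgen (x * x) (by rw [map_mul, hx, zero_mul])
  have hb := comul_x x φ h hx' hφx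
  set b := LinearMap.mul' R R (TensorProduct.map φ φ (Coalgebra.comul (R := R) x)) with hbdef
  refine ⟨a, b, ha, hb, ?_⟩
  -- multiplicativity
  have e1 : Bialgebra.comulAlgHom R A (x * x) = a • Bialgebra.comulAlgHom R A x := by rw [ha, map_smul]
  have e2 : Bialgebra.comulAlgHom R A x = x ⊗ₜ[R] 1 + 1 ⊗ₜ[R] x + b • (x ⊗ₜ[R] x) := hb
  rw [map_mul, e2] at e1
  have e3 : (x ⊗ₜ[R] 1 + 1 ⊗ₜ[R] x + b • (x ⊗ₜ[R] x)) * (x ⊗ₜ[R] 1 + 1 ⊗ₜ[R] x + b • (x ⊗ₜ[R] x)) =
      a • (x ⊗ₜ[R] 1 + 1 ⊗ₜ[R] x) + (2 + 4 * (a * b) + (a * b) ^ 2) • (x ⊗ₜ[R] x) := by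
    simp only [add_mul, mul_add, Algebra.TensorProduct.tmul_mul_tmul, mul_one, one_mul, ha, smul_mul_assoc,
      mul_smul_comm, ← TensorProduct.smul_tmul', TensorProduct.tmul_smul]
    module
  rw [e3] at e1
  have e4 : (2 + 3 * (a * b) + (a * b) ^ 2) • (x ⊗ₜ[R] x) = 0 := by
    have : (2 + 3 * (a * b) + (a * b) ^ 2) • (x ⊗ₜ[R] x) = a • (x ⊗ₜ[R] 1 + 1 ⊗ₜ[R] x) + (2 + 4 * (a * b) + (a * b) ^ 2) • (x ⊗ₜ[R] x)
      - a • (x ⊗ₜ[R] 1 + 1 ⊗ₜ[R] x + b • (x ⊗ₜ[R] x)) := by module
    rw [this, e1, sub_self]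
  have e5 := smul_tmul_eq x φ h hφx _ e4
  -- antipode
  obtain ⟨s, hs⟩ := hgen (HopfAlgebra.antipode R x) (by
    have : Bialgebra.counitAlgHom R A (HopfAlgebra.antipode R x) = Bialgebra.counitAlgHom R A x := by
      simp
    rw [this, hx])
  have e6 := HopfAlgebra.mul_antipode_rTensor_comul_apply (R := R) x
  rw [hb, hx', map_zero] at e6
  simp only [map_add, map_smul, LinearMap.rTensor_tmul, LinearMap.mul'_apply, hs, mul_one,
    HopfAlgebra.antipode_one, one_mul, smul_mul_assoc, ha] at e6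
  have e7 : (s + 1 + b * (s * a)) • x = 0 := by
    rw [← e6]; module
  have e8 := hfree _ e7
  have e9 : (1 + a * b) * (-s) = 1 := by linear_combination (-1 : R) * e8
  have e10 : (1 + a * b) * (a * b + 2) = 0 := by linear_combination e5
  have e11 : a * b + 2 = 0 := by
    calc a * b + 2 = ((1 + a * b) * (-s)) * (a * b + 2) := by rw [e9, one_mul]
      _ = (-s) * ((1 + a * b) * (a * b + 2)) := by ring
      _ = 0 := by rw [e10, mul_zero]
  linear_combination e11

end K956.OrderTwo
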