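import Groth.Agent.OortTate.K956.Gen

/-!
# The Cartier pairing: `A ⊗ A^D` as the convolution algebra of endomorphisms
-/

set_option autoImplicit false
universe u

open WithConv Coalgebra TensorProduct SGA3b

namespace K956.Pair

variable {R : Type u} [CommRing R] {A : Type u} [CommRing A] [HopfAlgebra R A]

section gen

theorem am_pow {B C : Type*} [Semiring B] [Algebra R B] [Semiring C] [Algebra R C] (f : B →ₐ[R] C) (x : B) (n : ℕ) :
    f (x ^ n) = f x ^ n := map_pow f x n

theorem am_one {B C : Type*} [Semiring B] [Algebra R B] [Semiring C] [Algebra R C] (f : B →ₐ[R] C) :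
    f 1 = 1 := map_one f

theorem am_mul {B C : Type*} [Semiring B] [Algebra R B] [Semiring C] [Algebra R C] (f : B →ₐ[R] C) (x y : B) :
    f (x * y) = f x * f y := map_mul f x y

theorem am_sub {B C : Type*} [Ring B] [Algebra R B] [Ring C] [Algebra R C] (f : B →ₐ[R] C) (x y : B) :
    f (x - y) = f x - f y := map_sub f x y

theorem am_add {B C : Type*} [Semiring B] [Algebra R B] [Semiring C] [Algebra R C] (f : B →ₐ[R] C) (x y : B) :
    f (x + y) = f x + f y := map_add f x y

theorem am_smul {B C : Type*} [Semiring B] [Algebra R B] [Semiring C] [Algebra R C] (f : B →ₐ[R] C) (r : R) (x : B) :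
    f (r • x) = r • f x := map_smul f r x

theorem am_sum {B C : Type*} [Semiring B] [Algebra R B] [Semiring C] [Algebra R C] (f : B →ₐ[R] C) {ι : Type*}
    (s : Finset ι) (x : ι → B) : f (∑ i ∈ s, x i) = ∑ i ∈ s, f (x i) := map_sum f x s

end gen

section Phi

local instance : RightDistribClass (A ⊗[R] CartDual.D R A) := Distrib.rightDistribClass (A ⊗[R] CartDual.D R A)
local instance : LeftDistribClass (A ⊗[R] CartDual.D R A) := Distrib.leftDistribClass (A ⊗[R] CartDual.D R A)

/-- `a ⊗ f ↦ (x ↦ f(x) a)` as a linear map -/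
noncomputable def Phi₀ : A ⊗[R] CartDual.D R A →ₗ[R] WithConv (A →ₗ[R] A) :=
  TensorProduct.lift (LinearMap.mk₂ R
    (fun (a : A) (f : CartDual.D R A) => (toConv ((LinearMap.toSpanSingleton R A a).comp f.ofConv) : WithConv (A →ₗ[R] A)))
    (by intros a b f; apply WithConv.ofConv_injective; ext x; simp)
    (by
      intros c a f
      apply WithConv.ofConv_injective
      ext x
      change f x • (c • a) = c • (f x • a)
      rw [smul_comm])
    (by intros a f g; apply WithConv.ofConv_injective; ext x; simp [add_smul])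
    (by intros c a f; apply WithConv.ofConv_injective; ext x; simp [mul_smul]))

theorem Phi₀_tmul (a : A) (f : CartDual.D R A) (x : A) : (Phi₀ (a ⊗ₜ[R] f)) x = f x • a := rfl

theorem Phi₀_mul (s t : A ⊗[R] CartDual.D R A) : Phi₀ (s * t) = Phi₀ s * Phi₀ t := by
  induction s with
  | zero => exact (congrArg Phi₀ (zero_mul t)).trans (by rw [map_zero, zero_mul])
  | add s s' hs hs' => rw [add_mul, map_add, map_add, add_mul, hs, hs']
  | tmul a f =>
    induction t with
    | zero => exact (congrArg Phi₀ (mul_zero (a ⊗ₜ[R] f))).trans (by rw [map_zero, mul_zero])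
    | add t t' ht ht' => rw [mul_add, map_add, map_add, mul_add, ht, ht']
    | tmul b g =>
      apply WithConv.ofConv_injective
      apply LinearMap.ext
      intro x
      change (Phi₀ ((a ⊗ₜ[R] f) * (b ⊗ₜ[R] g))) x = (Phi₀ (a ⊗ₜ[R] f) * Phi₀ (b ⊗ₜ[R] g)) x
      rw [Algebra.TensorProduct.tmul_mul_tmul, Phi₀_tmul, (ℛ R x).convMul_apply, (ℛ R x).convMul_apply,
        Finset.sum_smul]
      refine Finset.sum_congr rfl fun i _ => ?_
      rw [Phi₀_tmul, Phi₀_tmul, smul_mul_smul_comm]

theorem Phi₀_one : Phi₀ (1 : A ⊗[R] CartDual.D R A) = 1 := by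
  apply WithConv.ofConv_injective
  apply LinearMap.ext
  intro x
  rw [Algebra.TensorProduct.one_def]
  change (Phi₀ ((1 : A) ⊗ₜ[R] (1 : CartDual.D R A))) x = _
  rw [Phi₀_tmul]
  change counit (R := R) x • (1 : A) = algebraMap R A (counit x)
  rw [Algebra.algebraMap_eq_smul_one]

theorem Phi₀_pow (s : A ⊗[R] CartDual.D R A) (n : ℕ) : Phi₀ (s ^ n) = Phi₀ s ^ n := by
  induction n with
  | zero => rw [pow_zero, pow_zero, Phi₀_one]
  | succ n ih => rw [pow_succ, pow_succ, Phi₀_mul, ih]

theorem Phi₀_injective [Module.Finite R A] [Module.Projective R A] :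
    Function.Injective (Phi₀ (R := R) (A := A)) := by
  obtain ⟨n, x, ξ, hx⟩ := Inv.exists_dual_basis R A
  have key : ∀ t : A ⊗[R] CartDual.D R A, ∑ k, (Phi₀ t) (x k) ⊗ₜ[R] (toConv (ξ k) : CartDual.D R A) = t := by
    intro t
    induction t with
    | zero => simp
    | add s t hs ht =>
      conv_rhs => rw [← hs, ← ht]
      rw [← Finset.sum_add_distrib]
      refine Finset.sum_congr rfl fun k _ => ?_
      rw [map_add]
      change ((Phi₀ s) (x k) + (Phi₀ t) (x k)) ⊗ₜ[R] _ = _
      rw [add_tmul]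
    | tmul a f =>
      have h1 : f = ∑ k, f (x k) • (toConv (ξ k) : CartDual.D R A) := by
        apply WithConv.ofConv_injective
        apply LinearMap.ext
        intro m
        rw [WithConv.ofConv_sum, LinearMap.sum_apply]
        conv_lhs => rw [← hx m]
        rw [map_sum]
        refine Finset.sum_congr rfl fun k _ => ?_
        rw [map_smul]
        change ξ k m • f (x k) = f (x k) • ξ k m
        rw [smul_eq_mul, smul_eq_mul, mul_comm]
      conv_rhs => rw [h1]
      rw [tmul_sum]
      refine Finset.sum_congr rfl fun k _ => ?_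
      rw [Phi₀_tmul, TensorProduct.smul_tmul]
  intro s t hst
  rw [← key s, ← key t, hst]

theorem Phi₀_delta (δ : A ⊗[R] CartDual.D R A)
    (hδ : ∀ a : A, TensorProduct.rid R A
      (LinearMap.lTensor A ((Module.Dual.eval R A a) ∘ₗ (CartDual.toDual R A).toLinearMap) δ) = a) :
    Phi₀ δ = toConv LinearMap.id := by
  have key : ∀ (a : A) (t : A ⊗[R] CartDual.D R A), TensorProduct.rid R A
      (LinearMap.lTensor A ((Module.Dual.eval R A a) ∘ₗ (CartDual.toDual R A).toLinearMap) t) = (Phi₀ t) a := by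
    intro a t
    induction t with
    | zero => simp
    | add s t hs ht =>
      rw [map_add, map_add, hs, ht, map_add]
      rfl
    | tmul b f =>
      rw [LinearMap.lTensor_tmul, TensorProduct.rid_tmul, Phi₀_tmul]
      rfl
  apply WithConv.ofConv_injective
  apply LinearMap.ext
  intro a
  change (Phi₀ δ) a = a
  rw [← key, hδ]

theorem powConv_toLinearMap (n : ℕ) : (toConv (powConv R A n).toLinearMap : WithConv (A →ₗ[R] A)) =
    (toConv LinearMap.id) ^ n := by
  have h := AlgHom.toLinearMap_convPow (toConv (AlgHom.id R A)) n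
  exact h

end Phi

section main

variable [Coalgebra.IsCocomm R A] {p : ℕ} [hpF : Fact p.Prime] {u : R} {χ : (ZMod p)ˣ →* Rˣ}

omit [Coalgebra.IsCocomm R A] in
/-- the image of `y_i` is the projection onto the `i`-th eigenspace -/
theorem Phi₀_ygen (δ : A ⊗[R] CartDual.D R A)
    (hδ : Phi₀ δ = toConv LinearMap.id)
    (ϕ : MonoidAlgebra R (Multiplicative (ZMod p)) →ₐ[R] A ⊗[R] CartDual.D R A)
    (hϕ : ϕ (OortTate.muT R p) = δ) (i : ℕ) :
    Phi₀ (ϕ (OortTate.ygen R p u χ i)) = toConv (BC.piA R A p u χ i) := by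
  have h1 : ∀ n : ℕ, Phi₀ (ϕ (powConv R (Gen.Bmu R p) n (OortTate.muT R p))) = toConv (powConv R A n).toLinearMap := by
    intro n
    have e1 : powConv R (Gen.Bmu R p) n (OortTate.muT R p) = (OortTate.muT R p) ^ n := by
      rw [Gen.powConv_muT, OortTate.muT, ← map_pow, ← ofAdd_nsmul, nsmul_eq_mul, mul_one]
    rw [e1, am_pow, hϕ, Phi₀_pow, hδ, powConv_toLinearMap]
  apply WithConv.ofConv_injective
  apply LinearMap.ext
  intro a
  rw [OortTate.ygen, Eig.proj_apply, am_smul, am_sum, map_smul, map_sum]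
  rw [WithConv.ofConv_smul, WithConv.ofConv_sum, LinearMap.smul_apply, LinearMap.sum_apply]
  change _ = BC.piA R A p u χ i a
  rw [BC.piA_apply, Eig.proj_apply]
  congr 1
  refine Finset.sum_congr rfl fun m _ => ?_
  rw [am_smul, map_smul, WithConv.ofConv_smul, LinearMap.smul_apply]
  congr 1
  have e2 : Phi₀ (ϕ (powConv R (Gen.Bmu R p) (m : ZMod p).val (OortTate.muT R p - 1))) =
      toConv (powConv R A (m : ZMod p).val).toLinearMap - 1 := by
    rw [map_sub, map_one]
    have h := am_add ϕ (powConv R (Gen.Bmu R p) (m : ZMod p).val (OortTate.muT R p) - 1) 1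
    rw [sub_add_cancel, am_one] at h
    have h' := congrArg Phi₀ h
    rw [map_add, Phi₀_one, h1] at h'
    exact eq_sub_of_add_eq h'.symm
  rw [e2, map_sub, AlgHom.commutes]
  rfl

theorem Phi₀_dualbasis [Module.Finite R A] [Module.Projective R A]
    (hu : u * ((p - 1 : ℕ) : R) = 1)
    (hkill : (toConv (AlgHom.id R A)) ^ p = 1) (i : ℕ) :
    ∃ (n : ℕ) (x : Fin n → OortTate.eigenAug R A p χ i) (f : Fin n → OortTate.eigenAug R (CartDual.D R A) p χ i),
      Phi₀ (∑ k, (x k : A) ⊗ₜ[R] (f k : CartDual.D R A)) = toConv (BC.piA R A p u χ i) := by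
  have : Module.Finite R (OortTate.eigenAug R A p χ i) := BC.finite_eigenAug hu hkill i
  have : Module.Projective R (OortTate.eigenAug R A p χ i) := BC.projective_eigenAug hu hkill i
  obtain ⟨n, x, ξ, hx⟩ := Inv.exists_dual_basis R (OortTate.eigenAug R A p χ i)
  choose f hf using fun k => (DualEig.bij (A := A) (χ := χ) hu hkill i).2 (ξ k)
  refine ⟨n, x, f, ?_⟩
  apply WithConv.ofConv_injective
  apply LinearMap.ext
  intro a
  rw [map_sum, WithConv.ofConv_sum, LinearMap.sum_apply]
  change ∑ k, (f k : CartDual.D R A) a • (x k : A) = BC.piA R A p u χ i a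
  have h1 : ∀ k, (f k : CartDual.D R A) a = ξ k (BC.projE u χ hkill i a) := by
    intro k
    have e1 := DualEig.dual_proj (u := u) hu (f k).2 (a - algebraMap R A (counit (R := R) a))
    have e2 : (f k : CartDual.D R A) (a - algebraMap R A (counit (R := R) a)) = (f k : CartDual.D R A) a := by
      rw [map_sub, Algebra.algebraMap_eq_smul_one, map_smul, (DualEig.mem_eigenAug_dual.mp (f k).2).1, smul_zero, sub_zero]
    rw [e2] at e1
    rw [← e1]
    exact LinearMap.congr_fun (hf k) (BC.projE u χ hkill i a)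
  simp only [h1]
  have h2 := congrArg Subtype.val (hx (BC.projE u χ hkill i a))
  rw [BC.projE_coe] at h2
  rw [← h2]
  simp

theorem tmul_eq_smul [Module.Finite R A] [Module.Projective R A]
    (hu : u * ((p - 1 : ℕ) : R) = 1)
    (hχ : ∀ m : (ZMod p)ˣ, m ≠ 1 → IsUnit ((χ m : R) - 1))
    (hχp : ∀ m : (ZMod p)ˣ, ((χ m : Rˣ) : R) - (((m : ZMod p).val : ℕ) : R) ∈ Ideal.span ({(p : R)} : Set R))
    (hrk : ∀ q : PrimeSpectrum R, Module.rankAtStalk A q = p) (i : ℕ)
    {a : A} (ha : a ∈ OortTate.eigenAug R A p χ i) {f : CartDual.D R A}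
    (hf : f ∈ OortTate.eigenAug R (CartDual.D R A) p χ i) :
    Phi₀ (a ⊗ₜ[R] f) = f a • toConv (BC.piA R A p u χ i) := by
  have hkill : (toConv (AlgHom.id R A)) ^ p = 1 := FieldEig.conv_pow_eq_one p hrk
  have : Module.Finite R (OortTate.eigenAug R A p χ i) := BC.finite_eigenAug hu hkill i
  have : Module.Projective R (OortTate.eigenAug R A p χ i) := BC.projective_eigenAug hu hkill i
  apply WithConv.ofConv_injective
  apply LinearMap.ext
  intro x
  change f x • a = f a • BC.piA R A p u χ i x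
  have e1 := DualEig.dual_proj (u := u) hu hf (x - algebraMap R A (counit (R := R) x))
  have e2 : f (x - algebraMap R A (counit (R := R) x)) = f x := by
    rw [map_sub, Algebra.algebraMap_eq_smul_one, map_smul, (DualEig.mem_eigenAug_dual.mp hf).1, smul_zero, sub_zero]
  rw [e2] at e1
  have h1 := Inv.symm_of_rank_one (Rank.rankAtStalk_eigenAug (A := A) hu hχ hχp hrk i)
    (f.ofConv.comp (OortTate.eigenAug R A p χ i).subtype) (BC.projE u χ hkill i x) ⟨a, ha⟩
  have h2 := congrArg Subtype.val h1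
  rw [← e1]
  exact h2

theorem main [Module.Finite R A] [Module.Projective R A]
    (hu : u * ((p - 1 : ℕ) : R) = 1)
    (hχ : ∀ m : (ZMod p)ˣ, m ≠ 1 → IsUnit ((χ m : R) - 1))
    (hχp : ∀ m : (ZMod p)ˣ, ((χ m : Rˣ) : R) - (((m : ZMod p).val : ℕ) : R) ∈ Ideal.span ({(p : R)} : Set R))
    (hrk : ∀ q : PrimeSpectrum R, Module.rankAtStalk A q = p) (i : ℕ)
    (δ : A ⊗[R] CartDual.D R A)
    (hδ : ∀ a : A, TensorProduct.rid R A
      (LinearMap.lTensor A ((Module.Dual.eval R A a) ∘ₗ (CartDual.toDual R A).toLinearMap) δ) = a)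
    (ϕ : MonoidAlgebra R (Multiplicative (ZMod p)) →ₐ[R] A ⊗[R] CartDual.D R A)
    (hϕ : ϕ (OortTate.muT R p) = δ) :
    Submodule.span R {ϕ (OortTate.ygen R p u χ i)} =
        LinearMap.range (TensorProduct.map (OortTate.eigenAug R A p χ i).subtype
          (OortTate.eigenAug R (CartDual.D R A) p χ i).subtype) ∧
      ∀ r : R, r • ϕ (OortTate.ygen R p u χ i) = 0 → r = 0 := by
  have hkill : (toConv (AlgHom.id R A)) ^ p = 1 := FieldEig.conv_pow_eq_one p hrk
  have : Module.Finite R (OortTate.eigenAug R A p χ i) := BC.finite_eigenAug hu hkill i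
  have : Module.Projective R (OortTate.eigenAug R A p χ i) := BC.projective_eigenAug hu hkill i
  have hy := Phi₀_ygen (u := u) (χ := χ) δ (Phi₀_delta δ hδ) ϕ hϕ i
  refine ⟨le_antisymm ?_ ?_, ?_⟩
  · rw [Submodule.span_singleton_le_iff_mem]
    obtain ⟨n, x, f, hxf⟩ := Phi₀_dualbasis (A := A) (χ := χ) hu hkill i
    have h1 : ϕ (OortTate.ygen R p u χ i) = ∑ k, (x k : A) ⊗ₜ[R] (f k : CartDual.D R A) :=
      Phi₀_injective (by rw [hy, hxf])
    refine ⟨∑ k, x k ⊗ₜ[R] f k, ?_⟩
    rw [h1, map_sum]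
    rfl
  · rintro _ ⟨t, rfl⟩
    induction t with
    | zero => rw [map_zero]; exact zero_mem _
    | add s t hs ht => rw [map_add]; exact add_mem hs ht
    | tmul a f =>
      rw [Submodule.mem_span_singleton]
      refine ⟨(f : CartDual.D R A) (a : A), ?_⟩
      apply Phi₀_injective
      rw [map_smul, hy]
      exact (tmul_eq_smul hu hχ hχp hrk i a.2 f.2).symm
  · intro r hr
    have h1 := congrArg Phi₀ hr
    rw [map_smul, hy, map_zero] at h1
    apply Inv.eq_zero_of_smul_eq_zero (Rank.rankAtStalk_eigenAug (A := A) hu hχ hχp hrk i)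
    intro m
    apply Subtype.ext
    have h2 := LinearMap.congr_fun (congrArg WithConv.ofConv h1) (m : A)
    change r • BC.piA R A p u χ i (m : A) = 0 at h2
    rw [BC.piA_of_mem hu m.2] at h2
    exact h2

end main

end K956.Pair
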