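import Groth.Agent.OortTate.K956.BC
import Groth.Agent.OortTate.K956.FieldEig
import Groth.Agent.OortTate.K956.Inv

/-!
# The eigenspaces are invertible and generated by the powers of the first one
-/

set_option autoImplicit false
universe u

open WithConv Coalgebra TensorProduct SGA3b

namespace K956.Rank

variable {R : Type u} [CommRing R] {A : Type u} [CommRing A] [HopfAlgebra R A] [Module.Finite R A] [Module.Projective R A]
variable {p : ℕ} [hpF : Fact p.Prime] {u : R} {χ : (ZMod p)ˣ →* Rˣ}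

section K

variable (K : Type u) [Field K] [Algebra R K] [IsAlgClosed K]

omit hpF [IsAlgClosed K] in
theorem finrank_K (hrk : ∀ q : PrimeSpectrum R, Module.rankAtStalk A q = p) :
    Module.finrank K (K ⊗[R] A) = p := by
  have h1 := Module.rankAtStalk_eq_finrank_of_free (R := K) (M := K ⊗[R] A)
  have h2 := congrFun h1 ⊥
  rw [Module.rankAtStalk_baseChange, hrk] at h2
  exact h2.symm

theorem exists_gen_K (hu : u * ((p - 1 : ℕ) : R) = 1)
    (hχp : ∀ m : (ZMod p)ˣ, ((χ m : Rˣ) : R) - (((m : ZMod p).val : ℕ) : R) ∈ Ideal.span ({(p : R)} : Set R))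
    (hrk : ∀ q : PrimeSpectrum R, Module.rankAtStalk A q = p) :
    ∃ y ∈ OortTate.eigenAug K (K ⊗[R] A) p (BC.chiS K χ) 1, ∀ t ≤ p - 1, y ^ t ≠ 0 :=
  FieldEig.exists_mem_pow_ne_zero K (K ⊗[R] A) p (algebraMap R K u) (BC.hu_S K hu) (BC.chiS K χ)
    (BC.hχp_S K hχp) (finrank_K K hrk)

theorem kill_K (hrk : ∀ q : PrimeSpectrum R, Module.rankAtStalk A q = p) :
    (toConv (AlgHom.id K (K ⊗[R] A))) ^ p = 1 :=
  FieldEig.conv_pow_eq_one p (FieldEig.rankAtStalk_field K (K ⊗[R] A) p (finrank_K K hrk))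

/-- the rank over a geometric point, `1 ≤ t ≤ p - 1` -/
theorem finrank_eigenAug_K (hu : u * ((p - 1 : ℕ) : R) = 1)
    (hχ : ∀ m : (ZMod p)ˣ, m ≠ 1 → IsUnit ((χ m : R) - 1))
    (hχp : ∀ m : (ZMod p)ˣ, ((χ m : Rˣ) : R) - (((m : ZMod p).val : ℕ) : R) ∈ Ideal.span ({(p : R)} : Set R))
    (hrk : ∀ q : PrimeSpectrum R, Module.rankAtStalk A q = p) (t : ℕ) (ht : 1 ≤ t) (htp : t ≤ p - 1) :
    Module.finrank K (OortTate.eigenAug K (K ⊗[R] A) p (BC.chiS K χ) t) = 1 := by
  obtain ⟨y, hy, hy0⟩ := exists_gen_K (A := A) K hu hχp hrk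
  rw [FieldEig.eigenAug_eq_span (BC.hu_S K hu) (BC.hχ_S K hχ) (finrank_K K hrk) hy hy0 t ht htp]
  exact finrank_span_singleton (hy0 t htp)

end K

/-- every `i` is congruent modulo `p - 1` to some `1 ≤ t ≤ p - 1` -/
theorem exists_modEq (p : ℕ) [hpF : Fact p.Prime] (i : ℕ) : ∃ t, 1 ≤ t ∧ t ≤ p - 1 ∧ i ≡ t [MOD (p - 1)] := by
  have hp1 := hpF.out.one_lt
  by_cases h : i % (p - 1) = 0
  · refine ⟨p - 1, by omega, le_refl _, ?_⟩
    rw [Nat.ModEq, h, Nat.mod_self]
  · exact ⟨i % (p - 1), Nat.one_le_iff_ne_zero.mpr h, (Nat.mod_lt _ (by omega)).le, (Nat.mod_modEq _ _).symm⟩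

/-- the eigenspaces have rank one -/
theorem rankAtStalk_eigenAug (hu : u * ((p - 1 : ℕ) : R) = 1)
    (hχ : ∀ m : (ZMod p)ˣ, m ≠ 1 → IsUnit ((χ m : R) - 1))
    (hχp : ∀ m : (ZMod p)ˣ, ((χ m : Rˣ) : R) - (((m : ZMod p).val : ℕ) : R) ∈ Ideal.span ({(p : R)} : Set R))
    (hrk : ∀ q : PrimeSpectrum R, Module.rankAtStalk A q = p) (i : ℕ) (q : PrimeSpectrum R) :
    Module.rankAtStalk (↥(OortTate.eigenAug R A p χ i)) q = 1 := by
  have hkill : (toConv (AlgHom.id R A)) ^ p = 1 := FieldEig.conv_pow_eq_one p hrk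
  obtain ⟨t, ht, htp, hit⟩ := exists_modEq p i
  rw [Eig.eigenAug_congr hit]
  have : Module.Finite R (OortTate.eigenAug R A p χ t) := BC.finite_eigenAug hu hkill t
  have : Module.Projective R (OortTate.eigenAug R A p χ t) := BC.projective_eigenAug hu hkill t
  let K := AlgebraicClosure q.asIdeal.ResidueField
  have h1 : (⊥ : PrimeSpectrum K).comap (algebraMap R K) = q := by
    ext a
    change algebraMap R K a ∈ (⊥ : Ideal K) ↔ _
    rw [IsScalarTower.algebraMap_apply R q.asIdeal.ResidueField K, Ideal.mem_bot, map_eq_zero,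
      Ideal.algebraMap_residueField_eq_zero]
  have h2 := Module.rankAtStalk_baseChange (R := R) (M := OortTate.eigenAug R A p χ t) (S := K) ⊥
  rw [h1] at h2
  rw [← h2, Module.rankAtStalk_eq_finrank_of_free]
  change Module.finrank K (K ⊗[R] (OortTate.eigenAug R A p χ t)) = 1
  rw [(BC.eigenAugEquiv K hu hkill (kill_K K hrk) t).finrank_eq]
  exact finrank_eigenAug_K K hu hχ hχp hrk t ht htp

theorem invertible_eigenAug (hu : u * ((p - 1 : ℕ) : R) = 1)
    (hχ : ∀ m : (ZMod p)ˣ, m ≠ 1 → IsUnit ((χ m : R) - 1))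
    (hχp : ∀ m : (ZMod p)ˣ, ((χ m : Rˣ) : R) - (((m : ZMod p).val : ℕ) : R) ∈ Ideal.span ({(p : R)} : Set R))
    (hrk : ∀ q : PrimeSpectrum R, Module.rankAtStalk A q = p) (i : ℕ) :
    Module.Invertible R (OortTate.eigenAug R A p χ i) := by
  have hkill : (toConv (AlgHom.id R A)) ^ p = 1 := FieldEig.conv_pow_eq_one p hrk
  have : Module.Finite R (OortTate.eigenAug R A p χ i) := BC.finite_eigenAug hu hkill i
  have : Module.Projective R (OortTate.eigenAug R A p χ i) := BC.projective_eigenAug hu hkill i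
  exact Inv.invertible_of_rank_one (rankAtStalk_eigenAug hu hχ hχp hrk i)

omit [Module.Finite R A] [Module.Projective R A] in
theorem pow_le (t : ℕ) (ht : 1 ≤ t) : (OortTate.eigenAug R A p χ 1) ^ t ≤ OortTate.eigenAug R A p χ t := by
  induction t, ht using Nat.le_induction with
  | base => rw [pow_one]
  | succ n hn ih =>
    rw [pow_succ, Submodule.mul_le]
    intro a ha b hb
    exact Eig.mul_mem (ih ha) hb

/-- a finitely generated module vanishing at all geometric points is zero -/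
theorem subsingleton_of_geometric {N : Type u} [AddCommGroup N] [Module R N] [Module.Finite R N]
    (h : ∀ q : PrimeSpectrum R, Subsingleton (AlgebraicClosure q.asIdeal.ResidueField ⊗[R] N)) : Subsingleton N := by
  rw [← Module.support_eq_empty_iff (R := R), Set.eq_empty_iff_forall_notMem]
  intro q hq
  rw [Module.mem_support_iff_nontrivial_residueField_tensorProduct] at hq
  let κ := q.asIdeal.ResidueField
  let K := AlgebraicClosure κ
  have h1 : Subsingleton (K ⊗[κ] (κ ⊗[R] N)) :=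
    (AlgebraTensorModule.cancelBaseChange R κ K K N).subsingleton_congr.mpr (h q)
  have h2 : Module.finrank K (K ⊗[κ] (κ ⊗[R] N)) = 0 := Module.finrank_zero_of_subsingleton
  rw [Module.finrank_baseChange] at h2
  have h3 : Subsingleton (κ ⊗[R] N) := Module.finrank_zero_iff.mp h2
  exact not_nontrivial_iff_subsingleton.mpr h3 hq

theorem pow_eq (hu : u * ((p - 1 : ℕ) : R) = 1)
    (hχ : ∀ m : (ZMod p)ˣ, m ≠ 1 → IsUnit ((χ m : R) - 1))
    (hχp : ∀ m : (ZMod p)ˣ, ((χ m : Rˣ) : R) - (((m : ZMod p).val : ℕ) : R) ∈ Ideal.span ({(p : R)} : Set R))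
    (hrk : ∀ q : PrimeSpectrum R, Module.rankAtStalk A q = p) (t : ℕ) (ht : 1 ≤ t) (htp : t ≤ p - 1) :
    (OortTate.eigenAug R A p χ 1) ^ t = OortTate.eigenAug R A p χ t := by
  have hkill : (toConv (AlgHom.id R A)) ^ p = 1 := FieldEig.conv_pow_eq_one p hrk
  refine le_antisymm (pow_le t ht) ?_
  have : Module.Finite R (OortTate.eigenAug R A p χ t) := BC.finite_eigenAug hu hkill t
  let j : ((OortTate.eigenAug R A p χ 1) ^ t : Submodule R A) →ₗ[R] OortTate.eigenAug R A p χ t :=
    Submodule.inclusion (pow_le t ht)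
  let N := (OortTate.eigenAug R A p χ t) ⧸ LinearMap.range j
  have hN : Subsingleton N := by
    apply subsingleton_of_geometric (R := R)
    intro q
    let K := AlgebraicClosure q.asIdeal.ResidueField
    let θ : K ⊗[R] (OortTate.eigenAug R A p χ t) →ₗ[K] K ⊗[R] N := (LinearMap.range j).mkQ.baseChange K
    have hθs : Function.Surjective θ := by
      have : Function.Surjective (LinearMap.lTensor K (LinearMap.range j).mkQ) :=
        LinearMap.lTensor_surjective K (Submodule.mkQ_surjective _)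
      exact this
    have hθ0 : ∀ w, θ w = 0 := by
      intro w
      obtain ⟨y, hy, hy0⟩ := exists_gen_K (A := A) K hu hχp hrk
      have h1 := FieldEig.eigenAug_eq_span (BC.hu_S K hu) (BC.hχ_S K hχ) (finrank_K K hrk) hy hy0 t ht htp
      have h2 : (OortTate.eigenAug R A p χ t).subtype.baseChange K w ∈
          OortTate.eigenAug K (K ⊗[R] A) p (BC.chiS K χ) t := by
        rw [BC.eigenAug_baseChange K hu hkill (kill_K K hrk) t]
        exact ⟨w, rfl⟩
      rw [h1] at h2
      have h3 : (OortTate.eigenAug R A p χ t).subtype.baseChange K w ∈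
          ((OortTate.eigenAug R A p χ 1) ^ t).baseChange K := by
        rw [Submodule.mem_span_singleton] at h2
        obtain ⟨c, hc⟩ := h2
        rw [← hc]
        apply Submodule.smul_mem
        apply BC.pow_mem_baseChange K _ _ t ht
        rw [← BC.eigenAug_baseChange K hu hkill (kill_K K hrk) 1]
        exact hy
      obtain ⟨v, hv⟩ := h3
      have h4 : (OortTate.eigenAug R A p χ t).subtype.baseChange K (j.baseChange K v) =
          (OortTate.eigenAug R A p χ t).subtype.baseChange K w := by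
        rw [← hv, ← LinearMap.comp_apply, ← LinearMap.baseChange_comp]
        rfl
      have h5 := BC.baseChange_subtype_injective K hu hkill t h4
      rw [← h5]
      change ((LinearMap.range j).mkQ.baseChange K) (j.baseChange K v) = 0
      rw [← LinearMap.comp_apply, ← LinearMap.baseChange_comp, LinearMap.range_mkQ_comp, LinearMap.baseChange_zero]
      rfl
    refine ⟨fun a b => ?_⟩
    obtain ⟨a', rfl⟩ := hθs a
    obtain ⟨b', rfl⟩ := hθs b
    rw [hθ0, hθ0]
  have h1 : LinearMap.range j = ⊤ := Submodule.Quotient.subsingleton_iff.mp hN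
  intro a ha
  have h2 : (⟨a, ha⟩ : OortTate.eigenAug R A p χ t) ∈ LinearMap.range j := by rw [h1]; trivial
  obtain ⟨b, hb⟩ := h2
  have h3 : (b : A) = a := congrArg Subtype.val hb
  rw [← h3]
  exact b.2

end K956.Rank
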