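import Groth.Agent.OortTate.K956.Gen
import Mathlib.LinearAlgebra.TensorAlgebra.Basic
import Mathlib.RingTheory.Ideal.Operations

/-!
# The presentation of a group scheme of order `p` by the tensor algebra of `I_1`
-/

set_option autoImplicit false
universe u v

open WithConv Coalgebra TensorProduct SGA3b

namespace K956.Tens

section general

variable {R : Type u} [CommRing R] {A : Type v} [CommRing A] [Algebra R A] (M : Submodule R A)

/-- the submodule of `T(M)` of elements of degree `n` -/
noncomputable def W (n : ℕ) : Submodule R (TensorAlgebra R M) := (LinearMap.range (TensorAlgebra.ι R (M := M))) ^ n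

/-- the algebra map `T(M) → A` -/
noncomputable abbrev L : TensorAlgebra R M →ₐ[R] A := TensorAlgebra.lift R M.subtype

theorem L_ι (m : M) : L M (TensorAlgebra.ι R m) = (m : A) := by simp [L]

theorem L_mem (n : ℕ) (z : TensorAlgebra R M) (hz : z ∈ W M n) : L M z ∈ M ^ n := by
  have h1 : L M z ∈ (W M n).map (L M).toLinearMap := ⟨z, hz, rfl⟩
  rw [W, Submodule.map_pow] at h1
  have h2 : (LinearMap.range (TensorAlgebra.ι R (M := M))).map (L M).toLinearMap = M := by
    rw [← LinearMap.range_comp]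
    have : (L M).toLinearMap ∘ₗ TensorAlgebra.ι R (M := M) = M.subtype := TensorAlgebra.ι_comp_lift M.subtype
    rw [this, Submodule.range_subtype]
  rwa [h2] at h1

theorem smul_W (x : M) (ξ : Module.Dual R M) (hξ : ∀ a b : M, ξ a • b = ξ b • a) (n : ℕ) :
    ∀ z ∈ W M n, (ξ x) ^ n • z = (TensorAlgebra.lift R ξ z) • (TensorAlgebra.ι R x) ^ n := by
  induction n with
  | zero =>
    intro z hz
    rw [W, pow_zero, Submodule.mem_one] at hz
    obtain ⟨r, rfl⟩ := hz
    rw [pow_zero, pow_zero, one_smul, AlgHom.commutes, Algebra.algebraMap_eq_smul_one]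
    rfl
  | succ n ih =>
    intro z hz
    rw [W, pow_succ] at hz
    induction hz using Submodule.mul_induction_on' with
    | mem_mul_mem y hy w hw =>
      obtain ⟨a, rfl⟩ := hw
      rw [pow_succ, pow_succ, ← smul_mul_smul_comm, ih y hy, ← map_smul, hξ x a, map_smul, map_mul,
        smul_mul_smul_comm]
      congr 2
      exact (TensorAlgebra.lift_ι_apply ξ a).symm
    | add y _ w _ hy hw => rw [smul_add, hy, hw, map_add, add_smul]

theorem smul_pow_mem (x : M) (ξ : Module.Dual R M) (hξ : ∀ a b : M, ξ a • b = ξ b • a) (n : ℕ) :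
    ∀ b ∈ M ^ n, ∃ c : R, (ξ x) ^ n • b = c • (x : A) ^ n := by
  induction n with
  | zero =>
    intro b hb
    rw [pow_zero, Submodule.mem_one] at hb
    obtain ⟨r, rfl⟩ := hb
    exact ⟨r, by rw [pow_zero, pow_zero, one_smul, Algebra.algebraMap_eq_smul_one]⟩
  | succ n ih =>
    intro b hb
    rw [pow_succ] at hb
    induction hb using Submodule.mul_induction_on' with
    | mem_mul_mem y hy w hw =>
      obtain ⟨c, hc⟩ := ih y hy
      refine ⟨c * ξ ⟨w, hw⟩, ?_⟩
      have h1 := congrArg Subtype.val (hξ x ⟨w, hw⟩)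
      change ξ x • w = ξ ⟨w, hw⟩ • (x : A) at h1
      rw [pow_succ, pow_succ, ← smul_mul_smul_comm, hc, h1, smul_mul_smul_comm]
    | add y _ w _ hy hw =>
      obtain ⟨c, hc⟩ := hy
      obtain ⟨d, hd⟩ := hw
      exact ⟨c + d, by rw [smul_add, hc, hd, add_smul]⟩

theorem W_injective [Module.Finite R M] [Module.Projective R M]
    (hrk : ∀ q : PrimeSpectrum R, Module.rankAtStalk M q = 1) (n : ℕ)
    (hn : ∀ r : R, (∀ b ∈ M ^ n, r • b = 0) → r = 0) (z : TensorAlgebra R M) (hz : z ∈ W M n)
    (hLz : L M z = 0) : z = 0 := by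
  obtain ⟨N, x, ξ, hx⟩ := Inv.exists_dual_basis R M
  have h1 := Inv.dual_basis_trace hrk x ξ hx
  have hsym := Inv.symm_of_rank_one hrk
  -- each `e_k ^ (2n)` kills `z`
  have h2 : ∀ k, (ξ k (x k)) ^ (n + n) • z = 0 := by
    intro k
    have h3 := smul_W M (x k) (ξ k) (hsym (ξ k)) n z hz
    have h4 : (TensorAlgebra.lift R (ξ k) z) • (x k : A) ^ n = 0 := by
      have h5 := congrArg (L M) h3
      rw [map_smul, hLz, smul_zero, map_smul, map_pow, L_ι] at h5
      exact h5.symm
    have h5 : (TensorAlgebra.lift R (ξ k) z) * (ξ k (x k)) ^ n = 0 := by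
      apply hn
      intro b hb
      obtain ⟨c, hc⟩ := smul_pow_mem M (x k) (ξ k) (hsym (ξ k)) n b hb
      rw [mul_smul, hc, smul_comm, h4, smul_zero]
    rw [pow_add, mul_smul, h3, smul_smul, mul_comm, h5, zero_smul]
  -- the `e_k` generate the unit ideal
  have h3 : Ideal.span (Set.range (fun k => ξ k (x k))) = ⊤ := by
    rw [Ideal.eq_top_iff_one, ← h1]
    exact Ideal.sum_mem _ fun k _ => Ideal.subset_span ⟨k, rfl⟩
  have h4 := Ideal.span_pow_eq_top _ h3 (n + n)
  have h5 : Ideal.span ((fun x => x ^ (n + n)) '' Set.range (fun k => ξ k (x k))) ≤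
      LinearMap.ker (LinearMap.toSpanSingleton R (TensorAlgebra R M) z) := by
    rw [Ideal.span_le]
    rintro _ ⟨_, ⟨k, rfl⟩, rfl⟩
    exact h2 k
  rw [h4] at h5
  have h6 := h5 (show (1 : R) ∈ (⊤ : Ideal R) from trivial)
  rw [LinearMap.mem_ker, LinearMap.toSpanSingleton_apply, one_smul] at h6
  exact h6

/-- the left ideal of relations -/
noncomputable def J (p : ℕ) : Ideal (TensorAlgebra R M) :=
  Ideal.span {x : TensorAlgebra R M |
          ∃ (f : Fin p → M) (g : M),
            (g : A) = ∏ i, (f i : A) ∧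
            x = (List.ofFn fun i => TensorAlgebra.ι R (f i)).prod - TensorAlgebra.ι R g}

theorem L_prod (n : ℕ) (f : Fin n → M) : L M (List.ofFn fun i => TensorAlgebra.ι R (f i)).prod = ∏ i, (f i : A) := by
  rw [map_list_prod, List.map_ofFn, List.prod_ofFn]
  refine Finset.prod_congr rfl fun i _ => ?_
  exact L_ι M (f i)

theorem J_le_ker (p : ℕ) : J M p ≤ RingHom.ker (L M) := by
  rw [J, Ideal.span_le]
  rintro _ ⟨f, g, hg, rfl⟩
  rw [SetLike.mem_coe, RingHom.mem_ker, map_sub, L_prod, L_ι, hg, sub_self]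

theorem W_p_le (p : ℕ) (hM : M ^ p ≤ M) : W M p ≤ (J M p).restrictScalars R ⊔ W M 1 := by
  rw [W, Submodule.pow_eq_span_pow_set, Submodule.span_le]
  intro z hz
  rw [Set.mem_pow] at hz
  obtain ⟨f, rfl⟩ := hz
  choose g hg using fun i => (f i).2
  have h1 : (List.ofFn fun i => (f i : TensorAlgebra R M)).prod = (List.ofFn fun i => TensorAlgebra.ι R (g i)).prod := by
    congr 2
    funext i
    exact (hg i).symm
  rw [h1]
  have h2 : ∏ i, (g i : A) ∈ M := by
    apply hM
    rw [← L_prod]
    apply L_mem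
    rw [W, Submodule.pow_eq_span_pow_set]
    apply Submodule.subset_span
    rw [Set.mem_pow]
    exact ⟨fun i => ⟨TensorAlgebra.ι R (g i), ⟨g i, rfl⟩⟩, rfl⟩
  have h3 : (List.ofFn fun i => TensorAlgebra.ι R (g i)).prod =
      ((List.ofFn fun i => TensorAlgebra.ι R (g i)).prod - TensorAlgebra.ι R (⟨_, h2⟩ : M)) + TensorAlgebra.ι R (⟨_, h2⟩ : M) := by
    rw [sub_add_cancel]
  rw [h3]
  refine Submodule.add_mem_sup ?_ ?_
  · exact Ideal.subset_span ⟨g, ⟨_, h2⟩, rfl, rfl⟩
  · rw [W, pow_one]
    exact ⟨_, rfl⟩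

theorem top_eq (p : ℕ) (hp : 2 ≤ p) (hM : M ^ p ≤ M) :
    (J M p).restrictScalars R ⊔ ⨆ n ∈ Finset.range p, W M n = ⊤ := by
  set N := (J M p).restrictScalars R ⊔ ⨆ n ∈ Finset.range p, W M n with hN
  have hW : ∀ n < p, W M n ≤ N := by
    intro n hn
    refine le_trans ?_ le_sup_right
    exact le_iSup₂_of_le n (Finset.mem_range.mpr hn) le_rfl
  have h1 : (1 : TensorAlgebra R M) ∈ N := by
    apply hW 0 (by omega)
    rw [W, pow_zero]
    exact Submodule.one_le.mp le_rfl
  have hι : ∀ (m : M), ∀ x ∈ N, TensorAlgebra.ι R m * x ∈ N := by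
    intro m x hx
    rw [hN, Submodule.mem_sup] at hx
    obtain ⟨j, hj, w, hw, rfl⟩ := hx
    rw [mul_add]
    refine add_mem ?_ ?_
    · exact Submodule.mem_sup_left ((J M p).mul_mem_left _ hj)
    · have h2 : (⨆ n ∈ Finset.range p, W M n) ≤ N.comap (LinearMap.mulLeft R (TensorAlgebra.ι R m)) := by
        refine iSup₂_le fun n hn => ?_
        intro y hy
        rw [Submodule.mem_comap, LinearMap.mulLeft_apply]
        have h3 : TensorAlgebra.ι R m * y ∈ W M (n + 1) := by
          rw [W, pow_succ']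
          exact Submodule.mul_mem_mul ⟨m, rfl⟩ hy
        rw [Finset.mem_range] at hn
        by_cases h4 : n + 1 < p
        · exact hW _ h4 h3
        · have h5 : n + 1 = p := by omega
          rw [h5] at h3
          exact (sup_le le_sup_left (hW 1 (by omega))) (W_p_le M p hM h3)
      exact h2 hw
  rw [eq_top_iff]
  intro t _
  have key : ∀ x ∈ N, t * x ∈ N := by
    induction t using TensorAlgebra.induction with
    | algebraMap r =>
      intro x hx
      rw [← Algebra.smul_def]
      exact N.smul_mem _ hx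
    | ι m => exact hι m
    | mul a b ha hb =>
      intro x hx
      rw [mul_assoc]
      exact ha trivial _ (hb trivial x hx)
    | add a b ha hb =>
      intro x hx
      rw [add_mul]
      exact add_mem (ha trivial x hx) (hb trivial x hx)
  have := key 1 h1
  rwa [mul_one] at this

end general

end K956.Tens
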