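import Groth.Agent.OortTate.K956.Tens

/-!
# The presentation of a group scheme of order `p` by the tensor algebra of `I_1` : the main theorem
-/

set_option autoImplicit false
universe u

open WithConv Coalgebra TensorProduct SGA3b

namespace K956.TensMain

open K956.Tens

variable {R : Type u} [CommRing R] {A : Type u} [CommRing A] [HopfAlgebra R A] [Module.Finite R A] [Module.Projective R A]
variable {p : ℕ} [hpF : Fact p.Prime] {u : R} {χ : (ZMod p)ˣ →* Rˣ}

theorem surj (hu : u * ((p - 1 : ℕ) : R) = 1)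
    (hχ : ∀ m : (ZMod p)ˣ, m ≠ 1 → IsUnit ((χ m : R) - 1))
    (hχp : ∀ m : (ZMod p)ˣ, ((χ m : Rˣ) : R) - (((m : ZMod p).val : ℕ) : R) ∈ Ideal.span ({(p : R)} : Set R))
    (hrk : ∀ q : PrimeSpectrum R, Module.rankAtStalk A q = p) :
    Function.Surjective (L (OortTate.eigenAug R A p χ 1)) := by
  have hkill := FieldEig.conv_pow_eq_one p hrk
  rw [← AlgHom.range_eq_top, ← Algebra.toSubmodule_eq_top]
  apply Gen.eq_top_of_le hu hχ hkill
  · exact one_mem (AlgHom.range (L (OortTate.eigenAug R A p χ 1)))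
  · intro t ht htp
    rw [← Rank.pow_eq hu hχ hχp hrk t ht htp, Submodule.pow_eq_span_pow_set, Submodule.span_le]
    intro z hz
    rw [Set.mem_pow] at hz
    obtain ⟨f, rfl⟩ := hz
    rw [List.prod_ofFn]
    exact Subalgebra.prod_mem (AlgHom.range (L (OortTate.eigenAug R A p χ 1)))
      (fun i _ => ⟨TensorAlgebra.ι R (f i), L_ι _ _⟩)

theorem pow_p_le : (OortTate.eigenAug R A p χ 1) ^ p ≤ OortTate.eigenAug R A p χ 1 := by
  have h1 := Rank.pow_le (R := R) (A := A) (χ := χ) p hpF.out.one_le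
  refine h1.trans (le_of_eq (Eig.eigenAug_congr ?_))
  have h2 : p = 1 + (p - 1) := by have := hpF.out.one_le; omega
  conv_lhs => rw [h2]
  simp [Nat.ModEq]

theorem faithful (hu : u * ((p - 1 : ℕ) : R) = 1)
    (hχ : ∀ m : (ZMod p)ˣ, m ≠ 1 → IsUnit ((χ m : R) - 1))
    (hχp : ∀ m : (ZMod p)ˣ, ((χ m : Rˣ) : R) - (((m : ZMod p).val : ℕ) : R) ∈ Ideal.span ({(p : R)} : Set R))
    (hrk : ∀ q : PrimeSpectrum R, Module.rankAtStalk A q = p) (n : ℕ) (hn : n < p)
    (r : R) (hr : ∀ b ∈ (OortTate.eigenAug R A p χ 1) ^ n, r • b = 0) : r = 0 := by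
  rcases Nat.eq_zero_or_pos n with h0 | h0
  · subst h0
    have h1 := hr 1 (by rw [pow_zero]; exact Submodule.one_le.mp le_rfl)
    have h2 := congrArg (counit (R := R)) h1
    rwa [map_smul, Bialgebra.counit_one, smul_eq_mul, mul_one, map_zero] at h2
  · rw [Rank.pow_eq hu hχ hχp hrk n h0 (by omega)] at hr
    have := BC.finite_eigenAug (R := R) (A := A) hu (χ := χ) (FieldEig.conv_pow_eq_one p hrk) n
    have := BC.projective_eigenAug (R := R) (A := A) hu (χ := χ) (FieldEig.conv_pow_eq_one p hrk) n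
    exact Inv.eq_zero_of_smul_eq_zero (Rank.rankAtStalk_eigenAug hu hχ hχp hrk n) r
      (fun m => Subtype.ext (hr m.1 m.2))

theorem comp_eq_zero (hu : u * ((p - 1 : ℕ) : R) = 1)
    (hχ : ∀ m : (ZMod p)ˣ, m ≠ 1 → IsUnit ((χ m : R) - 1))
    (hkill : (toConv (AlgHom.id R A)) ^ p = 1)
    (a : ℕ → A) (ha : ∀ n, a n ∈ (OortTate.eigenAug R A p χ 1) ^ n) (hs : ∑ n ∈ Finset.range p, a n = 0) :
    ∀ n < p, a n = 0 := by
  have hp1 := hpF.out.one_lt
  have hmem : ∀ n, 1 ≤ n → a n ∈ OortTate.eigenAug R A p χ n := fun n hn => Rank.pow_le n hn (ha n)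
  have h0 : a 0 = 0 := by
    have h1 := congrArg (counit (R := R)) hs
    rw [map_zero, map_sum, Finset.sum_eq_single 0] at h1
    · have h2 := ha 0
      rw [pow_zero, Submodule.mem_one] at h2
      obtain ⟨r, hr⟩ := h2
      rw [← hr, Bialgebra.counit_algebraMap] at h1
      rw [← hr, h1, map_zero]
    · intro j _ hj
      exact (Eig.mem_eigenAug.mp (hmem j (Nat.one_le_iff_ne_zero.mpr hj))).1
    · intro h; exact absurd (Finset.mem_range.mpr (by omega)) h
  intro n hn
  by_cases hn0 : n = 0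
  · rw [hn0, h0]
  · have h1 := congrArg (OortTate.proj R A p u χ n) hs
    rw [map_zero, map_sum, Finset.sum_eq_single n] at h1
    · rwa [Eig.proj_of_mem hu _ (hmem _ (Nat.one_le_iff_ne_zero.mpr hn0))] at h1
    · intro j hjm hj
      by_cases hj0 : j = 0
      · rw [hj0, h0, map_zero]
      · refine Eig.proj_eq_zero hχ hkill (j := j) ?_
          (Eig.mem_eigenAug.mp (hmem _ (Nat.one_le_iff_ne_zero.mpr hj0))).2
        intro hmod
        apply hj
        rw [Finset.mem_range] at hjm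
        have h3 : n - 1 ≡ j - 1 [MOD (p - 1)] := by
          apply Nat.ModEq.add_right_cancel' 1
          rwa [Nat.sub_add_cancel (by omega), Nat.sub_add_cancel (by omega)]
        have h4 := Nat.ModEq.eq_of_lt_of_lt h3 (by omega) (by omega)
        omega
    · intro h; exact absurd (Finset.mem_range.mpr hn) h

theorem ker_le (hu : u * ((p - 1 : ℕ) : R) = 1)
    (hχ : ∀ m : (ZMod p)ˣ, m ≠ 1 → IsUnit ((χ m : R) - 1))
    (hχp : ∀ m : (ZMod p)ˣ, ((χ m : Rˣ) : R) - (((m : ZMod p).val : ℕ) : R) ∈ Ideal.span ({(p : R)} : Set R))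
    (hrk : ∀ q : PrimeSpectrum R, Module.rankAtStalk A q = p) :
    RingHom.ker (L (OortTate.eigenAug R A p χ 1)) ≤ J (OortTate.eigenAug R A p χ 1) p := by
  have hkill := FieldEig.conv_pow_eq_one p hrk
  have := BC.finite_eigenAug (R := R) (A := A) hu (χ := χ) hkill 1
  have := BC.projective_eigenAug (R := R) (A := A) hu (χ := χ) hkill 1
  intro z hz
  have hz' : z ∈ (⊤ : Submodule R (TensorAlgebra R (OortTate.eigenAug R A p χ 1))) := trivial
  rw [← top_eq (OortTate.eigenAug R A p χ 1) p hpF.out.two_le pow_p_le, Submodule.mem_sup] at hz'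
  obtain ⟨j, hj, w, hw, rfl⟩ := hz'
  have hjker : L (OortTate.eigenAug R A p χ 1) j = 0 := J_le_ker _ _ hj
  have hw0 : L (OortTate.eigenAug R A p χ 1) w = 0 := by
    rw [RingHom.mem_ker, map_add, hjker, zero_add] at hz
    exact hz
  rw [Submodule.mem_iSup_finset_iff_exists_sum] at hw
  obtain ⟨v, hv⟩ := hw
  have hLv : ∀ n, L (OortTate.eigenAug R A p χ 1) (v n : TensorAlgebra R (OortTate.eigenAug R A p χ 1)) ∈
      (OortTate.eigenAug R A p χ 1) ^ n := fun n => L_mem _ n _ (v n).2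
  have hsum : ∑ n ∈ Finset.range p, L (OortTate.eigenAug R A p χ 1)
      (v n : TensorAlgebra R (OortTate.eigenAug R A p χ 1)) = 0 := by
    rw [← map_sum, hv, hw0]
  have hv0 := comp_eq_zero hu hχ hkill _ hLv hsum
  have hw' : w = 0 := by
    rw [← hv]
    refine Finset.sum_eq_zero fun n hn => ?_
    rw [Finset.mem_range] at hn
    exact W_injective _ (Rank.rankAtStalk_eigenAug hu hχ hχp hrk 1) n
      (faithful hu hχ hχp hrk n hn) _ (v n).2 (hv0 n hn)
  rw [hw', add_zero]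
  exact hj

theorem main (hu : u * ((p - 1 : ℕ) : R) = 1)
    (hχ : ∀ m : (ZMod p)ˣ, m ≠ 1 → IsUnit ((χ m : R) - 1))
    (hχp : ∀ m : (ZMod p)ˣ, ((χ m : Rˣ) : R) - (((m : ZMod p).val : ℕ) : R) ∈ Ideal.span ({(p : R)} : Set R))
    (hrk : ∀ q : PrimeSpectrum R, Module.rankAtStalk A q = p) :
    RingHom.ker (L (OortTate.eigenAug R A p χ 1)) = J (OortTate.eigenAug R A p χ 1) p :=
  le_antisymm (ker_le hu hχ hχp hrk) (J_le_ker _ _)

end K956.TensMain
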